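import Mathlib
import Cfsg.Agent.H749.Block
import Cfsg.Agent.H749.Val
import Cfsg.Agent.H630.Cross

/-!
# Block decompositions of isometry groups and the condition `Cond` (helper17)

* `Spc F` : finite spaces with a function `f : V → V → F`; `X.G = Iso X.f`; `X.prod Y` the orthogonal sum;
* `exists_of_comm` : an isometry of the sum commuting with `(a, b)`, `a`, `b` without intertwiners, is block diagonal;
* `PA`, `PT` : the two conclusions used, and their behaviour for sums.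
-/

set_option autoImplicit false
set_option linter.unusedSectionVars false

open Cfsg
open Cfsg.Agent.H749 (Iso)
open Cfsg.Agent.H630.NH

namespace Cfsg.Agent.H17.CR

universe u v

/-- a finite space with a function of two variables -/
structure Spc (F : Type) [Field F] where
  V : Type
  [ag : AddCommGroup V]
  [md : Module F V]
  [fin : Finite V]
  f : V → V → F

attribute [instance] Spc.ag Spc.md Spc.fin

variable {F : Type} [Field F]

/-- its group -/
abbrev Spc.G (X : Spc F) : Subgroup (X.V ≃ₗ[F] X.V) := Iso X.f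

instance finite_aut {V : Type*} [AddCommGroup V] [Module F V] [Finite V] : Finite (V ≃ₗ[F] V) :=
  Finite.of_injective (fun g : V ≃ₗ[F] V => (g : V → V)) DFunLike.coe_injective

/-- orthogonal sum -/
abbrev Spc.prod (X Y : Spc F) : Spc F where
  V := X.V × Y.V
  f := fun x y => X.f x.1 y.1 + Y.f x.2 y.2

variable {X Y : Spc F}

/-- the block diagonal embedding -/
def emb (X Y : Spc F) : X.G × Y.G →* (X.prod Y).G where
  toFun x := ⟨LinearEquiv.prodCongr x.1.1 x.2.1, fun u v => by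
    show X.f (x.1.1 u.1) (x.1.1 v.1) + Y.f (x.2.1 u.2) (x.2.1 v.2) = X.f u.1 v.1 + Y.f u.2 v.2
    rw [x.1.2, x.2.2]⟩
  map_one' := rfl
  map_mul' _ _ := rfl

theorem emb_apply (x : X.G × Y.G) (v : X.V × Y.V) : (emb X Y x).1 v = (x.1.1 v.1, x.2.1 v.2) := rfl

theorem emb_injective : Function.Injective (emb X Y) := by
  rintro ⟨a, b⟩ ⟨a', b'⟩ h
  have h1 : ∀ v : X.V × Y.V, (a.1 v.1, b.1 v.2) = (a'.1 v.1, b'.1 v.2) := fun v => by
    rw [← emb_apply (a, b), ← emb_apply (a', b'), h]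
  refine Prod.ext (Subtype.ext (LinearEquiv.ext fun u => ?_)) (Subtype.ext (LinearEquiv.ext fun w => ?_))
  · exact congrArg Prod.fst (h1 (u, 0))
  · exact congrArg Prod.snd (h1 (0, w))

section NI

variable {U W : Type*} [AddCommGroup U] [Module F U] [AddCommGroup W] [Module F W]

/-- no intertwiners -/
def NI (a : U ≃ₗ[F] U) (b : W ≃ₗ[F] W) : Prop := ∀ γ : U →ₗ[F] W, (∀ u, γ (a u) = b (γ u)) → γ = 0

theorem NI.one_right [Finite U] {a : U ≃ₗ[F] U} (h : ∀ u, a u = u → u = 0) : NI a (1 : W ≃ₗ[F] W) := by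
  intro γ hγ
  have hinj : Function.Injective fun u : U => a u - u := by
    intro x y hxy
    have h1 : a (x - y) = x - y := by
      rw [map_sub]
      have hxy' : a x - x = a y - y := hxy
      have : a x = a y - y + x := by rw [← hxy']; abel
      rw [this]; abel
    exact sub_eq_zero.1 (h _ h1)
  have hsurj := Finite.surjective_of_injective hinj
  refine LinearMap.ext fun u => ?_
  obtain ⟨w, hw⟩ := hsurj u
  rw [← hw]
  show γ (a w - w) = 0
  rw [map_sub, hγ]
  exact sub_self _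

theorem NI.one_left {b : W ≃ₗ[F] W} (h : ∀ w, b w = w → w = 0) : NI (1 : U ≃ₗ[F] U) b := by
  intro γ hγ
  refine LinearMap.ext fun u => ?_
  exact h _ (hγ u).symm

variable {W' : Type*} [AddCommGroup W'] [Module F W']

theorem NI.prod_right {a : U ≃ₗ[F] U} {b : W ≃ₗ[F] W} {b' : W' ≃ₗ[F] W'} (h : NI a b) (h' : NI a b') :
    NI a (LinearEquiv.prodCongr b b') := by
  intro γ hγ
  have h1 := h (LinearMap.fst F W W' ∘ₗ γ) fun u => congrArg Prod.fst (hγ u)
  have h2 := h' (LinearMap.snd F W W' ∘ₗ γ) fun u => congrArg Prod.snd (hγ u)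
  refine LinearMap.ext fun u => Prod.ext ?_ ?_
  · exact LinearMap.congr_fun h1 u
  · exact LinearMap.congr_fun h2 u

theorem NI.prod_left {a : U ≃ₗ[F] U} {b : W ≃ₗ[F] W} {b' : W' ≃ₗ[F] W'} (h : NI b a) (h' : NI b' a) :
    NI (LinearEquiv.prodCongr b b') a := by
  intro γ hγ
  have h1 := h (γ ∘ₗ LinearMap.inl F W W') fun u => by
    have := hγ (u, 0)
    have e : (LinearEquiv.prodCongr b b') (u, (0 : W')) = (b u, 0) := by
      show (b u, b' 0) = (b u, 0)
      rw [map_zero]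
    rw [e] at this
    exact this
  have h2 := h' (γ ∘ₗ LinearMap.inr F W W') fun u => by
    have := hγ (0, u)
    have e : (LinearEquiv.prodCongr b b') ((0 : W), u) = (0, b' u) := by
      show (b 0, b' u) = (0, b' u)
      rw [map_zero]
    rw [e] at this
    exact this
  refine LinearMap.ext fun u => ?_
  have e : u = (u.1, 0) + (0, u.2) := by simp
  rw [e, map_add]
  have e1 := LinearMap.congr_fun h1 u.1
  have e2 := LinearMap.congr_fun h2 u.2
  simp only [LinearMap.comp_apply, LinearMap.inl_apply, LinearMap.inr_apply, LinearMap.zero_apply] at e1 e2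
  rw [e1, e2]
  simp

end NI

/-- an isometry commuting with `(a, b)` is block diagonal if there are no intertwiners -/
theorem exists_of_comm {a : X.G} {b : Y.G} (h1 : NI a.1 b.1) (h2 : NI b.1 a.1) {z : (X.prod Y).G}
    (hz : z * emb X Y (a, b) = emb X Y (a, b) * z) :
    ∃ x : X.G, ∃ y : Y.G, z = emb X Y (x, y) ∧ x * a = a * x ∧ y * b = b * y := by
  -- blocks of an isometry commuting with `(a, b)`
  have key : ∀ z : (X.prod Y).G, z * emb X Y (a, b) = emb X Y (a, b) * z →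
      (∀ u : X.V, (z.1 (u, 0)).2 = 0) ∧ (∀ w : Y.V, (z.1 (0, w)).1 = 0) := by
    intro z hz
    have hzv : ∀ v : X.V × Y.V, z.1 (a.1 v.1, b.1 v.2) = (a.1 (z.1 v).1, b.1 (z.1 v).2) := by
      intro v
      have h3 := congrArg (fun g : (X.prod Y).G => g.1 v) hz
      exact h3
    constructor
    · have h3 := h1 (LinearMap.snd F X.V Y.V ∘ₗ z.1.toLinearMap ∘ₗ LinearMap.inl F X.V Y.V) fun u => by
        have h4 := hzv (u, 0)
        have e : (a.1 u, b.1 (0 : Y.V)) = (a.1 u, (0 : Y.V)) := by rw [map_zero]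
        rw [e] at h4
        exact congrArg Prod.snd h4
      intro u
      exact LinearMap.congr_fun h3 u
    · have h3 := h2 (LinearMap.fst F X.V Y.V ∘ₗ z.1.toLinearMap ∘ₗ LinearMap.inr F X.V Y.V) fun u => by
        have h4 := hzv (0, u)
        have e : (a.1 (0 : X.V), b.1 u) = ((0 : X.V), b.1 u) := by rw [map_zero]
        rw [e] at h4
        exact congrArg Prod.fst h4
      intro u
      exact LinearMap.congr_fun h3 u
  have hz' : z⁻¹ * emb X Y (a, b) = emb X Y (a, b) * z⁻¹ := by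
    have h3 : emb X Y (a, b) = z * emb X Y (a, b) * z⁻¹ := by rw [hz]; group
    calc z⁻¹ * emb X Y (a, b) = z⁻¹ * (z * emb X Y (a, b) * z⁻¹) := by rw [← h3]
      _ = emb X Y (a, b) * z⁻¹ := by group
  obtain ⟨k1, k2⟩ := key z hz
  obtain ⟨k3, k4⟩ := key z⁻¹ hz'
  have hzz : ∀ v, (z⁻¹).1 (z.1 v) = v := fun v => by
    have := congrArg (fun g : (X.prod Y).G => g.1 v) (inv_mul_cancel z)
    exact this
  have hzz' : ∀ v, z.1 ((z⁻¹).1 v) = v := fun v => by
    have := congrArg (fun g : (X.prod Y).G => g.1 v) (mul_inv_cancel z)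
    exact this
  have e1 : ∀ u : X.V, z.1 (u, 0) = ((z.1 (u, 0)).1, 0) := fun u => Prod.ext rfl (k1 u)
  have e2 : ∀ w : Y.V, z.1 (0, w) = (0, (z.1 (0, w)).2) := fun w => Prod.ext (k2 w) rfl
  have e3 : ∀ u : X.V, (z⁻¹).1 (u, 0) = (((z⁻¹).1 (u, 0)).1, 0) := fun u => Prod.ext rfl (k3 u)
  have e4 : ∀ w : Y.V, (z⁻¹).1 (0, w) = (0, ((z⁻¹).1 (0, w)).2) := fun w => Prod.ext (k4 w) rfl
  let x0 : X.V ≃ₗ[F] X.V := LinearEquiv.ofLinearMap
    (LinearMap.fst F X.V Y.V ∘ₗ z.1.toLinearMap ∘ₗ LinearMap.inl F X.V Y.V)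
    (LinearMap.fst F X.V Y.V ∘ₗ (z⁻¹).1.toLinearMap ∘ₗ LinearMap.inl F X.V Y.V)
    (LinearMap.ext fun u => by
      show (z.1 (((z⁻¹).1 (u, 0)).1, 0)).1 = u
      rw [← e3, hzz'])
    (LinearMap.ext fun u => by
      show ((z⁻¹).1 ((z.1 (u, 0)).1, 0)).1 = u
      rw [← e1, hzz])
  let y0 : Y.V ≃ₗ[F] Y.V := LinearEquiv.ofLinearMap
    (LinearMap.snd F X.V Y.V ∘ₗ z.1.toLinearMap ∘ₗ LinearMap.inr F X.V Y.V)
    (LinearMap.snd F X.V Y.V ∘ₗ (z⁻¹).1.toLinearMap ∘ₗ LinearMap.inr F X.V Y.V)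
    (LinearMap.ext fun u => by
      show (z.1 (0, ((z⁻¹).1 (0, u)).2)).2 = u
      rw [← e4, hzz'])
    (LinearMap.ext fun u => by
      show ((z⁻¹).1 (0, (z.1 (0, u)).2)).2 = u
      rw [← e2, hzz])
  have hx0 : ∀ u, x0 u = (z.1 (u, 0)).1 := fun u => rfl
  have hy0 : ∀ u, y0 u = (z.1 (0, u)).2 := fun u => rfl
  have hx : x0 ∈ X.G := by
    intro u v
    have h3 := z.2 (u, 0) (v, 0)
    rw [e1 u, e1 v] at h3
    have h4 : X.f (x0 u) (x0 v) + Y.f 0 0 = X.f u v + Y.f 0 0 := h3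
    exact add_right_cancel h4
  have hy : y0 ∈ Y.G := by
    intro u v
    have h3 := z.2 (0, u) (0, v)
    rw [e2 u, e2 v] at h3
    have h4 : X.f 0 0 + Y.f (y0 u) (y0 v) = X.f 0 0 + Y.f u v := h3
    exact add_left_cancel h4
  have hzem : z = emb X Y (⟨x0, hx⟩, ⟨y0, hy⟩) := by
    refine Subtype.ext (LinearEquiv.ext fun v => ?_)
    rw [emb_apply]
    have e : v = (v.1, 0) + (0, v.2) := by simp
    have h3 : z.1 v = z.1 (v.1, 0) + z.1 (0, v.2) := by
      conv_lhs => rw [e]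
      exact map_add _ _ _
    rw [h3, e1, e2]
    show ((z.1 (v.1, 0)).1 + 0, 0 + (z.1 (0, v.2)).2) = (x0 v.1, y0 v.2)
    rw [add_zero, zero_add, hx0, hy0]
  refine ⟨⟨x0, hx⟩, ⟨y0, hy⟩, hzem, ?_, ?_⟩
  · have h3 := hz
    rw [hzem, ← map_mul, ← map_mul] at h3
    exact congrArg Prod.fst (emb_injective h3)
  · have h3 := hz
    rw [hzem, ← map_mul, ← map_mul] at h3
    exact congrArg Prod.snd (emb_injective h3)

theorem mem_centralizer {G : Type*} [Group G] {a z : G} :
    z ∈ Subgroup.centralizer ({a} : Set G) ↔ z * a = a * z := Subgroup.mem_centralizer_singleton_iff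

theorem card_centralizer_dvd {a : X.G} {b : Y.G} (h1 : NI a.1 b.1) (h2 : NI b.1 a.1) :
    Nat.card (Subgroup.centralizer ({emb X Y (a, b)} : Set (X.prod Y).G)) ∣
      Nat.card (Subgroup.centralizer ({a} : Set X.G)) * Nat.card (Subgroup.centralizer ({b} : Set Y.G)) := by
  have h3 : Subgroup.centralizer ({emb X Y (a, b)} : Set (X.prod Y).G) ≤
      ((Subgroup.centralizer ({a} : Set X.G)).prod (Subgroup.centralizer ({b} : Set Y.G))).map (emb X Y) := by
    intro z hz
    obtain ⟨x, y, hzxy, hx, hy⟩ := exists_of_comm h1 h2 (mem_centralizer.1 hz)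
    refine ⟨(x, y), ⟨?_, ?_⟩, hzxy.symm⟩
    · exact mem_centralizer.2 hx
    · exact mem_centralizer.2 hy
  have h4 := Subgroup.card_dvd_of_le h3
  rw [Nat.card_congr (((Subgroup.centralizer ({a} : Set X.G)).prod (Subgroup.centralizer ({b} : Set Y.G))).equivMapOfInjective
    (emb X Y) emb_injective).toEquiv.symm, Nat.card_congr (Subgroup.prodEquiv _ _).toEquiv, Nat.card_prod] at h4
  exact h4

/-- the exponent of `p` in the order of a group -/
noncomputable def ev (p : ℕ) (G : Type*) [Group G] : ℕ := (Nat.card G).factorization p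

theorem ev_congr (p : ℕ) {G H : Type*} [Group G] [Group H] (e : G ≃* H) : ev p G = ev p H := by
  rw [ev, ev, Nat.card_congr e.toEquiv]

theorem ev_eq_zero {p : ℕ} {G : Type*} [Group G] (h : ¬ p ∣ Nat.card G) : ev p G = 0 :=
  Nat.factorization_eq_zero_of_not_dvd h

theorem ev_pos {p : ℕ} (hp : p.Prime) {G : Type*} [Group G] [Finite G] (h : p ∣ Nat.card G) : 0 < ev p G :=
  hp.factorization_pos_of_dvd Nat.card_pos.ne' h

theorem not_dvd_of_ev {p : ℕ} (hp : p.Prime) {G : Type*} [Group G] [Finite G] (h : ev p G = 0) : ¬ p ∣ Nat.card G :=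
  fun h1 => (ev_pos hp h1).ne' h

theorem ev_centralizer_le (p : ℕ) {a : X.G} {b : Y.G} (h1 : NI a.1 b.1) (h2 : NI b.1 a.1) :
    ev p (Subgroup.centralizer ({emb X Y (a, b)} : Set (X.prod Y).G)) ≤
      ev p (Subgroup.centralizer ({a} : Set X.G)) + ev p (Subgroup.centralizer ({b} : Set Y.G)) := by
  have h3 := card_centralizer_dvd h1 h2
  have h4 := (Nat.factorization_le_iff_dvd Nat.card_pos.ne' (mul_ne_zero Nat.card_pos.ne' Nat.card_pos.ne')).2 h3 p
  rw [Nat.factorization_mul Nat.card_pos.ne' Nat.card_pos.ne', Finsupp.add_apply] at h4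
  exact h4

theorem ev_subgroup_le (p : ℕ) {G : Type*} [Group G] [Finite G] (H : Subgroup G) : ev p H ≤ ev p G :=
  (Nat.factorization_le_iff_dvd Nat.card_pos.ne' Nat.card_pos.ne').2 (Subgroup.card_subgroup_dvd_card H) p

theorem ev_index {p : ℕ} {G : Type*} [Group G] [Finite G] (H : Subgroup G) :
    ev p G = ev p H + H.index.factorization p := by
  rw [ev, ← Subgroup.card_mul_index H, Nat.factorization_mul Nat.card_pos.ne' Subgroup.index_ne_zero_of_finite]
  rfl

theorem not_dvd_index_iff {p : ℕ} (hp : p.Prime) {G : Type*} [Group G] [Finite G] (H : Subgroup G) :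
    ¬ p ∣ H.index ↔ ev p H = ev p G := by
  rw [ev_index (p := p) H]
  constructor
  · intro h
    rw [Nat.factorization_eq_zero_of_not_dvd h, add_zero]
  · intro h h1
    have := hp.factorization_pos_of_dvd Subgroup.index_ne_zero_of_finite h1
    omega

/-- a `q`-element with a small centralizer -/
theorem not_cond_of_ev {G : Type u} [Group G] [Finite G] {π : Set ℕ} {p q : ℕ} (hpp : p.Prime) (hp : p ∈ π)
    (hq : q ∈ π) (hpq : p ≠ q) (y : G) (hy : ∃ k : ℕ, orderOf y = q ^ k)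
    (h : ev p (Subgroup.centralizer ({y} : Set G)) < ev p G) : ¬ Cond π G := by
  refine not_cond_of_elem hp hq hpq y hy ?_
  by_contra h1
  exact h.ne ((not_dvd_index_iff hpp _).1 h1)

/-- a `p`-subgroup centralised by no element of order `q` -/
def PA (p q : ℕ) (G : Type u) [Group G] : Prop :=
  ∃ A : Subgroup G, IsPGroup p A ∧ ∀ z : G, z ^ q = 1 → (∀ a ∈ A, a * z = z * a) → z = 1

theorem PA.congr {p q : ℕ} {G : Type u} {H : Type v} [Group G] [Group H] (h : PA p q G) (e : G ≃* H) : PA p q H := by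
  obtain ⟨A, hA, h1⟩ := h
  refine ⟨A.map (e : G →* H), hA.map _, fun z hz hc => ?_⟩
  have h2 := h1 (e.symm z) (by rw [← map_pow, hz, map_one]) fun a ha => by
    have h3 := hc (e a) ⟨a, ha, rfl⟩
    apply e.injective
    rw [map_mul, map_mul, MulEquiv.apply_symm_apply]
    exact h3
  rw [← e.apply_symm_apply z, h2, map_one]

theorem PA.base {p q : ℕ} (hq : q.Prime) {G : Type u} [Group G] [Finite G] (h : ¬ q ∣ Nat.card G) : PA p q G := by
  refine ⟨⊥, IsPGroup.of_bot, fun z hz _ => ?_⟩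
  have h1 : orderOf z ∣ q := orderOf_dvd_of_pow_eq_one hz
  rcases (Nat.dvd_prime hq).1 h1 with h2 | h2
  · exact orderOf_eq_one_iff.1 h2
  · exact absurd (h2 ▸ orderOf_dvd_natCard z) h

theorem PA.step {p q : ℕ} (hq : q.Prime) (a : X.G) (ha : ∃ k : ℕ, orderOf a = p ^ k)
    (hfix : ∀ u, a.1 u = u → u = 0) (hd : ¬ q ∣ Nat.card X.G) (h : PA p q Y.G) : PA p q (X.prod Y).G := by
  obtain ⟨A, hA, h1⟩ := h
  obtain ⟨k, hk⟩ := ha
  refine ⟨((Subgroup.zpowers a).prod A).map (emb X Y), ?_, fun z hz hc => ?_⟩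
  · apply IsPGroup.map
    rintro ⟨⟨x, y⟩, hx, hy⟩
    obtain ⟨l, hl⟩ := hA ⟨y, hy⟩
    obtain ⟨i, hi⟩ := hx
    refine ⟨k + l, Subtype.ext ?_⟩
    show (x, y) ^ (p ^ (k + l)) = 1
    rw [Prod.pow_mk]
    refine Prod.ext ?_ ?_
    · show x ^ p ^ (k + l) = 1
      have hi' : x = a ^ i := hi.symm
      rw [hi', pow_add, pow_mul, ← zpow_natCast (a ^ i), ← zpow_mul, mul_comm, zpow_mul, zpow_natCast, ← hk, pow_orderOf_eq_one, one_zpow,
        one_pow]
    · show y ^ p ^ (k + l) = 1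
      have hl' : y ^ p ^ l = 1 := congrArg Subtype.val hl
      rw [pow_add, mul_comm, pow_mul, hl', one_pow]
  · have h2 := hc (emb X Y (a, 1)) ⟨(a, 1), ⟨Subgroup.mem_zpowers a, one_mem A⟩, rfl⟩
    have n1 : NI a.1 (1 : Y.G).1 := NI.one_right hfix
    have n2 : NI (1 : Y.G).1 a.1 := NI.one_left hfix
    obtain ⟨x, y, hzxy, -, -⟩ := exists_of_comm n1 n2 h2.symm
    have h3 : (x, y) ^ q = 1 := by
      apply emb_injective
      rw [map_pow, map_one, ← hzxy, hz]
    have hx : x = 1 := by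
      have h4 : x ^ q = 1 := congrArg Prod.fst h3
      rcases (Nat.dvd_prime hq).1 (orderOf_dvd_of_pow_eq_one h4) with h5 | h5
      · exact orderOf_eq_one_iff.1 h5
      · exact absurd (h5 ▸ orderOf_dvd_natCard x) hd
    have hy : y = 1 := by
      refine h1 y (congrArg Prod.snd h3) fun b hb => ?_
      have h4 := hc (emb X Y (1, b)) ⟨(1, b), ⟨one_mem _, hb⟩, rfl⟩
      rw [hzxy, ← map_mul, ← map_mul] at h4
      exact congrArg Prod.snd (emb_injective h4)
    rw [hzxy, hx, hy]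
    rfl

theorem PA.not_cond {G : Type u} [Group G] [Finite G] {π : Set ℕ} {p q : ℕ} (hpp : p.Prime) (hqp : q.Prime)
    (hp : p ∈ π) (hq : q ∈ π) (hpq : p ≠ q) (hd : q ∣ Nat.card G) (h : PA p q G) : ¬ Cond π G := by
  obtain ⟨A, hA, h1⟩ := h
  have := Fact.mk hpp
  have := Fact.mk hqp
  refine not_cond_of_centralizer hp hq hpq hd A hA fun y hy hc => ?_
  have h2 := h1 y (by rw [← hy, pow_orderOf_eq_one]) hc
  rw [h2, orderOf_one] at hy
  exact hqp.one_lt.ne hy

/-- an abelian subgroup of index prime to `π` -/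
def PT (π : Set ℕ) (G : Type u) [Group G] : Prop := ∃ T : Subgroup G, IsMulCommutative T ∧ ∀ p ∈ π, ¬ p ∣ T.index

theorem PT.congr {π : Set ℕ} {G : Type u} {H : Type v} [Group G] [Group H] (h : PT π G) (e : G ≃* H) : PT π H := by
  obtain ⟨T, hT, h1⟩ := h
  refine ⟨T.map (e : G →* H), ?_, fun p hp => ?_⟩
  · constructor
    constructor
    rintro ⟨_, a, ha, rfl⟩ ⟨_, b, hb, rfl⟩
    have h0 := congrArg Subtype.val (hT.is_comm.comm ⟨a, ha⟩ ⟨b, hb⟩)
    have h2 : a * b = b * a := h0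
    apply Subtype.ext
    show (e : G →* H) a * (e : G →* H) b = (e : G →* H) b * (e : G →* H) a
    rw [← map_mul, ← map_mul, h2]
  · rw [Subgroup.index_map_equiv]
    exact h1 p hp

theorem PT.base {π : Set ℕ} {G : Type u} [Group G] (h : ∀ p ∈ π, ¬ p ∣ Nat.card G) : PT π G := by
  refine ⟨⊥, ?_, fun p hp => ?_⟩
  · constructor
    constructor
    rintro ⟨a, ha⟩ ⟨b, hb⟩
    rw [Subgroup.mem_bot] at ha hb
    subst ha
    subst hb
    rfl
  · rw [Subgroup.index_bot]
    exact h p hp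

theorem PT.prod {π : Set ℕ} (hπ : ∀ p ∈ π, p.Prime) (h : PT π X.G) (h' : PT π Y.G)
    (hv : ∀ p ∈ π, ev p (X.prod Y).G = ev p X.G + ev p Y.G) : PT π (X.prod Y).G := by
  obtain ⟨T, hT, h1⟩ := h
  obtain ⟨T', hT', h1'⟩ := h'
  refine ⟨(T.prod T').map (emb X Y), ?_, fun p hp => ?_⟩
  · constructor
    constructor
    rintro ⟨_, ⟨a, a'⟩, ha, rfl⟩ ⟨_, ⟨b, b'⟩, hb, rfl⟩
    have h2 : a * b = b * a := congrArg Subtype.val (hT.is_comm.comm ⟨a, ha.1⟩ ⟨b, hb.1⟩)
    have h2' : a' * b' = b' * a' := congrArg Subtype.val (hT'.is_comm.comm ⟨a', ha.2⟩ ⟨b', hb.2⟩)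
    apply Subtype.ext
    show emb X Y (a, a') * emb X Y (b, b') = emb X Y (b, b') * emb X Y (a, a')
    rw [← map_mul, ← map_mul, Prod.mk_mul_mk, Prod.mk_mul_mk, h2, h2']
  · rw [not_dvd_index_iff (hπ p hp), hv p hp, ← (not_dvd_index_iff (hπ p hp) T).1 (h1 p hp),
      ← (not_dvd_index_iff (hπ p hp) T').1 (h1' p hp), ev,
      Nat.card_congr ((T.prod T').equivMapOfInjective (emb X Y) emb_injective).toEquiv.symm,
      Nat.card_congr (Subgroup.prodEquiv _ _).toEquiv, Nat.card_prod,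
      Nat.factorization_mul Nat.card_pos.ne' Nat.card_pos.ne']
    rfl

/-- the abelian subgroup of one block -/
theorem PT.of_cond {π : Set ℕ} (hπ : ∀ p ∈ π, p.Prime) {q : ℕ} (hq : q ∈ π) (hc : Cond π (X.prod Y).G)
    (hv : ∀ p ∈ π, ev p (X.prod Y).G = ev p X.G + ev p Y.G) (hd : q ∣ Nat.card X.G)
    (hfix : ∀ a : X.G, orderOf a = q → ∀ u, a.1 u = u → u = 0)
    (hcomm : ∀ a : X.G, orderOf a = q → ∀ z z' : X.G, z * a = a * z → z' * a = a * z' → z * z' = z' * z) :
    PT π X.G := by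
  have hqf := Fact.mk (hπ q hq)
  obtain ⟨S⟩ := (inferInstance : Nonempty (Sylow q X.G))
  have hS : Nontrivial (S : Subgroup X.G) := by
    rw [Subgroup.nontrivial_iff_ne_bot]
    intro hb
    have h1 := S.not_dvd_index
    rw [hb, Subgroup.index_bot] at h1
    exact h1 hd
  have hZ : Nontrivial (Subgroup.center (S : Subgroup X.G)) := S.isPGroup'.center_nontrivial
  have hdZ : q ∣ Nat.card (Subgroup.center (S : Subgroup X.G)) := by
    obtain ⟨n, hn⟩ := IsPGroup.iff_card.1 (S.isPGroup'.to_subgroup (Subgroup.center (S : Subgroup X.G)))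
    rw [hn]
    refine dvd_pow_self q ?_
    rintro rfl
    have h2 : 1 < Nat.card (Subgroup.center (S : Subgroup X.G)) := Finite.one_lt_card
    rw [hn, pow_zero] at h2
    exact lt_irrefl _ h2
  obtain ⟨⟨⟨y, hyS⟩, hyZ⟩, hy⟩ := exists_prime_orderOf_dvd_card' q hdZ
  have hyo : orderOf y = q := by
    have e1 := Subgroup.orderOf_mk (⟨y, hyS⟩ : (S : Subgroup X.G)) hyZ
    have e2 := Subgroup.orderOf_mk y hyS
    rw [← hy, e1, e2]
  have hfx := hfix y hyo
  set T : Subgroup X.G := Subgroup.centralizer ({y} : Set X.G) with hTdef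
  have hST : (S : Subgroup X.G) ≤ T := by
    intro s hs
    rw [hTdef, mem_centralizer]
    have := Subgroup.mem_center_iff.1 hyZ ⟨s, hs⟩
    exact congrArg Subtype.val this
  refine ⟨T, ?_, fun p hp => ?_⟩
  · constructor
    constructor
    rintro ⟨z, hz⟩ ⟨z', hz'⟩
    exact Subtype.ext (hcomm y hyo z z' (mem_centralizer.1 hz) (mem_centralizer.1 hz'))
  · by_cases hpq : p = q
    · subst hpq
      intro h
      exact S.not_dvd_index (h.trans (Subgroup.index_dvd_of_le hST))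
    · have hpp := hπ p hp
      have n1 : NI y.1 (1 : Y.G).1 := NI.one_right hfx
      have n2 : NI (1 : Y.G).1 y.1 := NI.one_left hfx
      have h1 := ev_centralizer_le p n1 n2
      have hyo' : ∃ k : ℕ, orderOf (emb X Y (y, 1)) = q ^ k := by
        refine ⟨1, ?_⟩
        rw [orderOf_injective (emb X Y) emb_injective, Prod.orderOf, pow_one]
        simp [hyo]
      have h2 := hc q hq p hp (Ne.symm hpq) _ hyo'
      rw [not_dvd_index_iff hpp] at h2
      rw [not_dvd_index_iff hpp]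
      have h3 := hv p hp
      have h4 := ev_subgroup_le p (Subgroup.centralizer ({(1 : Y.G)} : Set Y.G))
      have h5 := ev_subgroup_le p T
      rw [← hTdef] at h1
      omega

end Cfsg.Agent.H17.CR
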