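import Mathlib
import Cfsg.Agent.H954.FieldSub
import Cfsg.Agent.H17.CR.Blocks

/-!
# Isometries of prime order of a space of minimal dimension (helper17)

`a` an isometry of order `q` of a space of dimension `2 d`, `d` the order of `|F| ^ 2` modulo `q`:
* `fix` : no fixed vectors;
* `comm` : the centralizer is commutative;
* `exists_pow` : if `2 d + 1 < q` then some power `a ^ j` of order `q` has no common eigenvalue with `a`.
-/

set_option autoImplicit false
set_option linter.unusedSectionVars false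

open Cfsg Polynomial

namespace Cfsg.Agent.H17.CR

namespace Eig

section Units

variable {q : ℕ} [Fact q.Prime]

/-- the subgroup generated by `w` and `-1` -/
def HH (w : (ZMod q)ˣ) : Subgroup (ZMod q)ˣ := Subgroup.closure {w, -1}

theorem card_HH (hq2 : q ≠ 2) (w : (ZMod q)ˣ) {d : ℕ} (hd : orderOf (w ^ 2) = d) : Nat.card (HH w) = 2 * d := by
  have h2 : (-1 : (ZMod q)ˣ) ≠ 1 := by
    intro h
    have h1 : (-1 : ZMod q) = 1 := congrArg Units.val h
    have hq : Fact (2 < q) := ⟨lt_of_le_of_ne (Fact.out : q.Prime).two_le (Ne.symm hq2)⟩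
    exact ZMod.neg_one_ne_one h1
  let φ : HH w →* (ZMod q)ˣ := (powMonoidHom 2).comp (HH w).subtype
  have h3 : φ.range = Subgroup.zpowers (w ^ 2) := by
    have : φ.range = (HH w).map (powMonoidHom 2) := by
      rw [MonoidHom.range_comp, Subgroup.range_subtype]
    rw [this, HH, MonoidHom.map_closure, Set.image_pair]
    rw [powMonoidHom_apply, powMonoidHom_apply, neg_one_sq, Set.pair_comm, Subgroup.closure_insert_one,
      Subgroup.zpowers_eq_closure]
  have h4 : Nat.card φ.ker = 2 := by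
    rw [Nat.card_eq_two_iff]
    refine ⟨1, ⟨⟨-1, Subgroup.subset_closure (by simp)⟩, ?_⟩, ?_, ?_⟩
    · show (-1 : (ZMod q)ˣ) ^ 2 = 1
      exact neg_one_sq
    · intro h
      exact h2 (congrArg (fun x : φ.ker => (x.1.1 : (ZMod q)ˣ)) h).symm
    · refine Set.eq_univ_of_forall fun x => ?_
      have hx : (x.1.1 : (ZMod q)ˣ) ^ 2 = 1 := x.2
      have hx' : ((x.1.1 : (ZMod q)ˣ) : ZMod q) ^ 2 = 1 := by
        rw [← Units.val_pow_eq_pow_val, hx, Units.val_one]
      rw [sq] at hx'
      rcases mul_self_eq_one_iff.1 hx' with h | h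
      · left
        apply Subtype.ext
        apply Subtype.ext
        exact Units.ext h
      · right
        apply Subtype.ext
        apply Subtype.ext
        exact Units.ext h
  have h5 := Subgroup.card_eq_card_quotient_mul_card_subgroup φ.ker
  have h6 : Nat.card (HH w ⧸ φ.ker) = d := by
    rw [Nat.card_congr (QuotientGroup.quotientKerEquivRange φ).toEquiv, h3, Nat.card_zpowers, hd]
  rw [h5, h6, h4, mul_comm]

end Units

section Roots

variable {F : Type*} [Field F] {M : Type*} [AddCommGroup M] [Module F M] [FiniteDimensional F M]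
  (K : Type*) [Field K] [Algebra F K]

/-- the eigenvalues -/
def R (A : Module.End F M) : Set K := (minpoly F A).rootSet K

theorem mem_R {A : Module.End F M} {x : K} : x ∈ R K A ↔ aeval x (minpoly F A) = 0 := by
  rw [R, mem_rootSet]
  exact and_iff_right (minpoly.ne_zero (Algebra.IsIntegral.isIntegral A))

theorem pow_mem_R {A : Module.End F M} {x : K} (h : x ∈ R K A) (j : ℕ) : x ^ j ∈ R K (A ^ j) := by
  rw [mem_R] at h ⊢
  have h1 : aeval A (expand F j (minpoly F (A ^ j))) = 0 := by
    rw [expand_aeval, minpoly.aeval]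
  obtain ⟨Q, hQ⟩ := minpoly.dvd F A h1
  rw [← expand_aeval, hQ, map_mul, h, zero_mul]

theorem frob_mem_R [Fintype F] {A : Module.End F M} {x : K} (h : x ∈ R K A) : x ^ Fintype.card F ∈ R K A := by
  rw [mem_R] at h ⊢
  rw [← expand_aeval, FiniteField.expand_card, map_pow, h, zero_pow Fintype.card_ne_zero]

theorem pow_eq_one_of_mem_R {A : Module.End F M} {q : ℕ} (hA : A ^ q = 1) {x : K} (h : x ∈ R K A) : x ^ q = 1 := by
  rw [mem_R] at h
  have h1 : aeval A (X ^ q - 1 : F[X]) = 0 := by
    rw [map_sub, map_pow, aeval_X, map_one, hA, sub_self]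
  obtain ⟨Q, hQ⟩ := minpoly.dvd F A h1
  have h2 : aeval x (X ^ q - 1 : F[X]) = 0 := by rw [hQ, map_mul, h, zero_mul]
  rw [map_sub, map_pow, aeval_X, map_one] at h2
  exact sub_eq_zero.1 h2

theorem finite_R (A : Module.End F M) : (R K A).Finite := rootSet_finite _ _

theorem natDegree_le (A : Module.End F M) : (minpoly F A).natDegree ≤ Module.finrank F M := by
  rw [← LinearMap.charpoly_natDegree A]
  exact natDegree_le_of_dvd (LinearMap.minpoly_dvd_charpoly A) (LinearMap.charpoly_monic A).ne_zero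

theorem ncard_R_le (A : Module.End F M) : (R K A).ncard ≤ (minpoly F A).natDegree := ncard_rootSet_le _ _

/-- adjoint -/
theorem adj {B : M → M → F} (hadd : ∀ u u' v, B (u + u') v = B u v + B u' v) (hsm : ∀ (c : F) u v, B (c • u) v = c * B u v)
    (hadd' : ∀ u v v', B u (v + v') = B u v + B u v') (hsm' : ∀ (c : F) u v, B u (c • v) = c * B u v)
    {A A' : Module.End F M} (h : ∀ u v, B (A u) v = B u (A' v)) (P : F[X]) (u v : M) :
    B (aeval A P u) v = B u (aeval A' P v) := by
  induction P using Polynomial.induction_on' with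
  | add p q hp hq => 
    rw [map_add, map_add, LinearMap.add_apply, LinearMap.add_apply, hadd, hadd', hp, hq]
  | monomial n c =>
    have h1 : ∀ (n : ℕ) (u v : M), B ((A ^ n) u) v = B u ((A' ^ n) v) := by
      intro n
      induction n with
      | zero => intro u v; rfl
      | succ n ih =>
        intro u v
        rw [pow_succ, Module.End.mul_apply, ih, h, pow_succ', Module.End.mul_apply]
    rw [aeval_monomial, aeval_monomial, Module.End.mul_apply, Module.End.mul_apply, Module.algebraMap_end_apply,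
      Module.algebraMap_end_apply, hsm, hsm', h1]

/-- a bilinear form without right radical -/
structure Bil (B : M → M → F) : Prop where
  add_left : ∀ u u' v, B (u + u') v = B u v + B u' v
  smul_left : ∀ (c : F) u v, B (c • u) v = c * B u v
  add_right : ∀ u v v', B u (v + v') = B u v + B u v'
  smul_right : ∀ (c : F) u v, B u (c • v) = c * B u v
  rad : ∀ v, (∀ u, B u v = 0) → v = 0

theorem inv_mem_R {B : M → M → F} (hB : Bil B) {A : Module.End F M} (hA : ∀ u v, B (A u) (A v) = B u v) {q : ℕ}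
    (hq : 1 ≤ q) (hAq : A ^ q = 1) {x : K} (h : x ∈ R K A) : x ^ (q - 1) ∈ R K A := by
  have h1 := pow_mem_R K h (q - 1)
  rw [mem_R] at h1 ⊢
  have h2 : aeval (A ^ (q - 1)) (minpoly F A) = 0 := by
    refine LinearMap.ext fun v => hB.rad _ fun u => ?_
    have hz : ∀ v, B 0 v = 0 := fun v => by
      have := hB.smul_left 0 0 v
      rwa [zero_smul, zero_mul] at this
    rw [← adj hB.add_left hB.smul_left hB.add_right hB.smul_right (A := A) (A' := A ^ (q - 1)) ?_ (minpoly F A) u v,
      minpoly.aeval, LinearMap.zero_apply, hz]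
    intro u v
    have h3 : A ((A ^ (q - 1)) v) = v := by
      rw [← Module.End.mul_apply, ← pow_succ', Nat.sub_add_cancel hq, hAq, Module.End.one_apply]
    conv_lhs => rw [← h3]
    rw [hA]
  obtain ⟨Q, hQ⟩ := minpoly.dvd F _ h2
  rw [hQ, map_mul, h1, zero_mul]

theorem exists_mem_R [IsAlgClosed K] {A : Module.End F M} {q : ℕ} (hq : (q : F) ≠ 0) (hA : A ^ q = 1) (hA1 : A ≠ 1) :
    ∃ x ∈ R K A, x ≠ 1 := by
  by_contra! h
  let Φ : F[X] := ∑ i ∈ Finset.range q, X ^ i
  have hΦ : (X - 1) * Φ = X ^ q - 1 := mul_geom_sum X q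
  have h1 : IsCoprime (minpoly F A) Φ := by
    rw [isCoprime_iff_aeval_ne_zero_of_isAlgClosed F K]
    intro x
    by_contra! hx
    have hx1 : x = 1 := h x ((mem_R K).2 hx.1)
    have h2 := hx.2
    rw [hx1, map_sum] at h2
    simp only [map_pow, aeval_X, one_pow, Finset.sum_const, Finset.card_range, nsmul_eq_mul, mul_one] at h2
    apply hq
    apply (algebraMap F K).injective
    rw [map_natCast, map_zero, h2]
  have h3 : aeval A (X ^ q - 1 : F[X]) = 0 := by
    rw [map_sub, map_pow, aeval_X, map_one, hA, sub_self]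
  have h4 := minpoly.dvd F A h3
  rw [← hΦ] at h4
  obtain ⟨Q, hQ⟩ := h1.dvd_of_dvd_mul_right h4
  have h5 : aeval A (X - 1 : F[X]) = 0 := by
    rw [hQ, map_mul, minpoly.aeval, zero_mul]
  rw [map_sub, aeval_X, map_one] at h5
  exact hA1 (sub_eq_zero.1 h5)

end Roots

section Main

variable {F : Type*} [Field F] [Fintype F] {M : Type*} [AddCommGroup M] [Module F M] [FiniteDimensional F M]
  (K : Type*) [Field K] [Algebra F K] {q : ℕ} [Fact q.Prime]

theorem pow_val_mul {x : K} (hx : x ^ q = 1) (c c' : ZMod q) : x ^ (c * c').val = (x ^ c.val) ^ c'.val := by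
  rw [ZMod.val_mul, ← pow_eq_pow_mod _ hx, pow_mul]

theorem pow_natCast_val {x : K} (hx : x ^ q = 1) (n : ℕ) : x ^ (n : ZMod q).val = x ^ n := by
  rw [ZMod.val_natCast, ← pow_eq_pow_mod _ hx]

theorem pow_HH_mem_R {B : M → M → F} (hB : Bil B) {A : Module.End F M} (hA : ∀ u v, B (A u) (A v) = B u v)
    (hAq : A ^ q = 1) {w : (ZMod q)ˣ} (hw : (w : ZMod q) = Fintype.card F) {c : (ZMod q)ˣ} (hc : c ∈ HH w) :
    ∀ x ∈ R K A, x ^ (c : ZMod q).val ∈ R K A := by
  have hq1 : 1 ≤ q := (Fact.out : q.Prime).one_lt.le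
  refine Subgroup.closure_induction (p := fun (c : (ZMod q)ˣ) _ => ∀ x ∈ R K A, x ^ (c : ZMod q).val ∈ R K A)
    ?_ ?_ ?_ ?_ hc
  · rintro c (rfl | rfl) x hx
    · rw [hw, pow_natCast_val K (pow_eq_one_of_mem_R K hAq hx)]
      exact frob_mem_R K hx
    · have h1 : ((-1 : (ZMod q)ˣ) : ZMod q) = ((q - 1 : ℕ) : ZMod q) := by
        rw [Nat.cast_sub hq1, ZMod.natCast_self, Nat.cast_one, zero_sub, Units.val_neg, Units.val_one]
      rw [h1, pow_natCast_val K (pow_eq_one_of_mem_R K hAq hx)]
      exact inv_mem_R K hB hA hq1 hAq hx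
  · intro x hx
    have : Fact (1 < q) := ⟨(Fact.out : q.Prime).one_lt⟩
    rw [Units.val_one, ZMod.val_one, pow_one]
    exact hx
  · intro c c' _ _ h1 h2 x hx
    rw [Units.val_mul, pow_val_mul K (pow_eq_one_of_mem_R K hAq hx)]
    exact h2 _ (h1 _ hx)
  · intro c _ h1 x hx
    have h2 : ∀ n : ℕ, ∀ x ∈ R K A, x ^ ((c ^ n : (ZMod q)ˣ) : ZMod q).val ∈ R K A := by
      intro n
      induction n with
      | zero =>
        intro x hx
        have : Fact (1 < q) := ⟨(Fact.out : q.Prime).one_lt⟩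
        rw [pow_zero, Units.val_one, ZMod.val_one, pow_one]
        exact hx
      | succ n ih =>
        intro x hx
        rw [pow_succ, Units.val_mul, pow_val_mul K (pow_eq_one_of_mem_R K hAq hx)]
        exact h1 _ (ih _ hx)
    have h3 : c⁻¹ = c ^ (orderOf c - 1) := by
      have h4 : c * c ^ (orderOf c - 1) = 1 := by
        rw [← pow_succ', Nat.sub_add_cancel (orderOf_pos c), pow_orderOf_eq_one]
      exact inv_eq_of_mul_eq_one_right h4
    rw [h3]
    exact h2 _ _ hx

theorem injOn {x : K} (hx : x ^ q = 1) (hx1 : x ≠ 1) : Function.Injective fun c : (ZMod q)ˣ => x ^ (c : ZMod q).val := by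
  intro c c' h
  have h1 : orderOf x = q := orderOf_eq_prime hx hx1
  have h2 := pow_injOn_Iio_orderOf (x := x) (by rw [h1]; exact ZMod.val_lt _) (by rw [h1]; exact ZMod.val_lt _) h
  exact Units.ext (ZMod.val_injective q h2)

/-- the eigenvalues form one orbit -/
theorem R_eq {B : M → M → F} (hB : Bil B) {A : Module.End F M} (hA : ∀ u v, B (A u) (A v) = B u v)
    (hAq : A ^ q = 1) {w : (ZMod q)ˣ} (hw : (w : ZMod q) = Fintype.card F) (hM : Module.finrank F M ≤ Nat.card (HH w))
    {x : K} (hx : x ∈ R K A) (hx1 : x ≠ 1) :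
    R K A = (fun c : (ZMod q)ˣ => x ^ (c : ZMod q).val) '' (HH w : Set (ZMod q)ˣ) ∧
      (minpoly F A).natDegree = Module.finrank F M := by
  have h1 : (fun c : (ZMod q)ˣ => x ^ (c : ZMod q).val) '' (HH w : Set (ZMod q)ˣ) ⊆ R K A := by
    rintro _ ⟨c, hc, rfl⟩
    exact pow_HH_mem_R K hB hA hAq hw hc x hx
  have h2 : ((fun c : (ZMod q)ˣ => x ^ (c : ZMod q).val) '' (HH w : Set (ZMod q)ˣ)).ncard = Nat.card (HH w) := by
    rw [Set.ncard_image_of_injective _ (injOn K (pow_eq_one_of_mem_R K hAq hx) hx1)]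
    rfl
  have h3 := Set.ncard_le_ncard h1 (finite_R K A)
  have h4 := ncard_R_le K A
  have h5 := natDegree_le A
  refine ⟨(Set.eq_of_subset_of_ncard_le h1 (by omega) (finite_R K A)).symm, by omega⟩

end Main

section Final

variable {F : Type} [Field F] [Fintype F] {M : Type*} [AddCommGroup M] [Module F M] [FiniteDimensional F M]
  {q : ℕ} [Fact q.Prime] {B : M → M → F}

theorem toEnd_pow (a : M ≃ₗ[F] M) (n : ℕ) : ((a ^ n : M ≃ₗ[F] M) : Module.End F M) = (a : Module.End F M) ^ n := by
  induction n with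
  | zero => rfl
  | succ n ih => rw [pow_succ, pow_succ, ← ih]; rfl

/-- the hypotheses -/
structure Hyp (B : M → M → F) (q d : ℕ) : Prop where
  prime : q.Prime
  ne_two : q ≠ 2
  ne_zero : (q : F) ≠ 0
  bil : Bil B
  ord : orderOf ((Fintype.card F : ZMod q) ^ 2) = d
  dim : Module.finrank F M = 2 * d

variable {d : ℕ}

theorem Hyp.exists_w (h : Hyp B q d) : ∃ w : (ZMod q)ˣ, (w : ZMod q) = Fintype.card F ∧ Nat.card (HH w) = 2 * d := by
  have hq : (Fintype.card F : ZMod q) ≠ 0 := by
    intro h1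
    rw [ZMod.natCast_eq_zero_iff] at h1
    obtain ⟨p, hp⟩ := CharP.exists F
    obtain ⟨n, hpp, hn⟩ := FiniteField.card F p
    rw [hn] at h1
    have h2 := (Nat.prime_dvd_prime_iff_eq h.prime hpp).1 (h.prime.dvd_of_dvd_pow h1)
    apply h.ne_zero
    rw [h2]
    exact CharP.cast_eq_zero F p
  refine ⟨Units.mk0 _ hq, rfl, card_HH h.ne_two _ ?_⟩
  rw [← h.ord, ← orderOf_units, Units.val_pow_eq_pow_val, Units.val_mk0]

theorem Hyp.orbit (h : Hyp B q d) {K : Type*} [Field K] [Algebra F K] [IsAlgClosed K] {a : M ≃ₗ[F] M}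
    (ha : ∀ u v, B (a u) (a v) = B u v)
    (hq : orderOf a = q) {w : (ZMod q)ˣ} (hw : (w : ZMod q) = Fintype.card F) (hc : Nat.card (HH w) = 2 * d) :
    ∃ x ∈ R K (a : Module.End F M), x ≠ 1 ∧ x ^ q = 1 ∧
    R K (a : Module.End F M) = (fun c : (ZMod q)ˣ => x ^ (c : ZMod q).val) '' (HH w : Set (ZMod q)ˣ) ∧
      (minpoly F (a : Module.End F M)).natDegree = Module.finrank F M := by
  have h1 : (a : Module.End F M) ^ q = 1 := by
    rw [← toEnd_pow, ← hq, pow_orderOf_eq_one]
    rfl
  have h2 : (a : Module.End F M) ≠ 1 := by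
    intro h2
    have h3 : a = 1 := LinearEquiv.ext fun u => LinearMap.congr_fun h2 u
    rw [h3, orderOf_one] at hq
    exact h.prime.one_lt.ne hq
  obtain ⟨x, hx, hx1⟩ := exists_mem_R K h.ne_zero h1 h2
  have h3 := R_eq K h.bil (A := (a : Module.End F M)) ha h1 hw (by rw [hc, h.dim]) hx hx1
  exact ⟨x, hx, hx1, pow_eq_one_of_mem_R K h1 hx, h3⟩

theorem Hyp.fix (h : Hyp B q d) {a : M ≃ₗ[F] M} (ha : ∀ u v, B (a u) (a v) = B u v) (hq : orderOf a = q) (u : M)
    (hu : a u = u) : u = 0 := by
  by_contra hu0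
  obtain ⟨w, hw, hc⟩ := h.exists_w
  obtain ⟨x, hx, hx1, hxq, hR, -⟩ := h.orbit (K := AlgebraicClosure F) ha hq hw hc
  have h1 : (1 : AlgebraicClosure F) ∈ R (AlgebraicClosure F) (a : Module.End F M) := by
    rw [mem_R]
    have h2 : ∀ P : F[X], (aeval (a : Module.End F M) P) u = (aeval (1 : F) P) • u := by
      intro P
      induction P using Polynomial.induction_on' with
      | add p q hp hq => rw [map_add, map_add, LinearMap.add_apply, hp, hq, add_smul]
      | monomial n c =>
        rw [aeval_monomial, aeval_monomial, Module.End.mul_apply, Module.algebraMap_end_apply, one_pow, mul_one,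
          Algebra.algebraMap_self_apply]
        congr 1
        induction n with
        | zero => rfl
        | succ n ih =>
          rw [pow_succ, Module.End.mul_apply]
          have : (a : Module.End F M) u = u := hu
          rw [this, ih]
    have h3 := h2 (minpoly F (a : Module.End F M))
    rw [minpoly.aeval, LinearMap.zero_apply] at h3
    have h4 := (smul_eq_zero.1 h3.symm).resolve_right hu0
    have h5 := congrArg (algebraMap F (AlgebraicClosure F)) h4
    rw [map_zero, ← aeval_algebraMap_apply, map_one] at h5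
    exact h5
  rw [hR] at h1
  obtain ⟨c, -, hc1⟩ := h1
  have hc2 : x ^ (c : ZMod q).val = 1 := hc1
  have h6 := orderOf_dvd_of_pow_eq_one hc2
  rw [orderOf_eq_prime hxq hx1] at h6
  have h7 := Nat.eq_zero_of_dvd_of_lt h6 (ZMod.val_lt _)
  exact c.ne_zero ((ZMod.val_eq_zero _).1 h7)

theorem Hyp.comm (h : Hyp B q d) {a : M ≃ₗ[F] M} (ha : ∀ u v, B (a u) (a v) = B u v) (hq : orderOf a = q)
    (z z' : M ≃ₗ[F] M) (hz : z * a = a * z) (hz' : z' * a = a * z') : z * z' = z' * z := by
  obtain ⟨w, hw, hc⟩ := h.exists_w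
  obtain ⟨x, hx, hx1, hxq, hR, hdeg⟩ := h.orbit (K := AlgebraicClosure F) ha hq hw hc
  obtain ⟨e⟩ := H954.FieldSub.exists_equiv_quot (a : Module.End F M) hdeg
  let A : Module.End F M := a
  have hlin : ∀ z : M ≃ₗ[F] M, z * a = a * z → ∃ f : Module.AEval' A →ₗ[F[X]] Module.AEval' A,
      ∀ v, f (Module.AEval'.of A v) = Module.AEval'.of A (z v) := by
    intro z hz
    let g : Module.AEval' A →ₗ[F] Module.AEval' A :=
      (Module.AEval'.of A).toLinearMap ∘ₗ (z : M →ₗ[F] M) ∘ₗ (Module.AEval'.of A).symm.toLinearMap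
    have hg : ∀ m : Module.AEval' A, g ((X : F[X]) • m) = (X : F[X]) • g m := by
      intro m
      obtain ⟨v, rfl⟩ := (Module.AEval'.of A).surjective m
      have e1 : g ((X : F[X]) • Module.AEval'.of A v) = Module.AEval'.of A (z (A v)) := by
        rw [Module.AEval'.X_smul_of]
        show Module.AEval'.of A (z ((Module.AEval'.of A).symm (Module.AEval'.of A (A v)))) = _
        rw [LinearEquiv.symm_apply_apply]
      have e2 : (X : F[X]) • g (Module.AEval'.of A v) = Module.AEval'.of A (A (z v)) := by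
        show (X : F[X]) • (Module.AEval'.of A (z ((Module.AEval'.of A).symm (Module.AEval'.of A v)))) = _
        rw [LinearEquiv.symm_apply_apply, Module.AEval'.X_smul_of]
      rw [e1, e2]
      congr 1
      exact congrArg (fun f : M ≃ₗ[F] M => f v) hz
    refine ⟨⟨⟨g, g.map_add⟩, fun P m => ?_⟩, fun v => ?_⟩
    · show g (P • m) = P • g m
      induction P using Polynomial.induction_on' with
      | add p q hp hq => rw [add_smul, add_smul, map_add, hp, hq]
      | monomial n c =>
        rw [← C_mul_X_pow_eq_monomial, mul_smul, mul_smul]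
        have h1 : ∀ n : ℕ, g ((X : F[X]) ^ n • m) = (X : F[X]) ^ n • g m := by
          intro n
          induction n with
          | zero => rw [pow_zero, one_smul, one_smul]
          | succ n ih => rw [pow_succ', mul_smul, mul_smul, hg, ih]
        have h2 : ∀ m : Module.AEval' A, (C c : F[X]) • m = c • m := fun m => by
          rw [Module.AEval.C_smul]
        rw [h2, h2, map_smul, h1]
    · show Module.AEval'.of A (z ((Module.AEval'.of A).symm (Module.AEval'.of A v))) = _
      rw [LinearEquiv.symm_apply_apply]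
  obtain ⟨f, hf⟩ := hlin z hz
  obtain ⟨f', hf'⟩ := hlin z' hz'
  have hcomm : ∀ f f' : (F[X] ⧸ Ideal.span {minpoly F A}) →ₗ[F[X]] (F[X] ⧸ Ideal.span {minpoly F A}), ∀ m,
      f (f' m) = f' (f m) := by
    intro f f' m
    obtain ⟨P, rfl⟩ := Ideal.Quotient.mk_surjective m
    have e0 : ∀ P : F[X], (Ideal.Quotient.mk (Ideal.span {minpoly F A}) P) =
        P • (Ideal.Quotient.mk (Ideal.span {minpoly F A}) 1) := by
      intro P
      rw [← mul_one P, map_mul, mul_one]
      rfl
    obtain ⟨Q, hQ⟩ := Ideal.Quotient.mk_surjective (f (Ideal.Quotient.mk (Ideal.span {minpoly F A}) 1))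
    obtain ⟨Q', hQ'⟩ := Ideal.Quotient.mk_surjective (f' (Ideal.Quotient.mk (Ideal.span {minpoly F A}) 1))
    rw [e0] at hQ hQ'
    rw [e0 P]
    have l1 : ∀ S : F[X], f (S • Ideal.Quotient.mk (Ideal.span {minpoly F A}) 1) =
        (S * Q) • Ideal.Quotient.mk (Ideal.span {minpoly F A}) 1 := fun S => by rw [map_smul, ← hQ, smul_smul]
    have l2 : ∀ S : F[X], f' (S • Ideal.Quotient.mk (Ideal.span {minpoly F A}) 1) =
        (S * Q') • Ideal.Quotient.mk (Ideal.span {minpoly F A}) 1 := fun S => by rw [map_smul, ← hQ', smul_smul]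
    rw [l1, l2, l1, l2, mul_assoc, mul_assoc, mul_comm Q Q']
  refine LinearEquiv.ext fun v => (Module.AEval'.of A).injective ?_
  show Module.AEval'.of A (z (z' v)) = Module.AEval'.of A (z' (z v))
  rw [← hf, ← hf', ← hf', ← hf]
  have h1 := hcomm (e.symm.toLinearMap ∘ₗ f ∘ₗ e.toLinearMap) (e.symm.toLinearMap ∘ₗ f' ∘ₗ e.toLinearMap)
    (e.symm (Module.AEval'.of A v))
  simp only [LinearMap.comp_apply, LinearEquiv.coe_coe, LinearEquiv.apply_symm_apply] at h1
  exact e.symm.injective h1

theorem ni_of_coprime {N : Type*} [AddCommGroup N] [Module F N] {a : M ≃ₗ[F] M} {b : N ≃ₗ[F] N}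
    {P Q : F[X]} (hP : aeval (a : Module.End F M) P = 0) (hQ : aeval (b : Module.End F N) Q = 0) (h : IsCoprime P Q) :
    NI a b := by
  intro γ hγ
  have h1 : ∀ (S : F[X]) (u : M), γ (aeval (a : Module.End F M) S u) = aeval (b : Module.End F N) S (γ u) := by
    intro S u
    induction S using Polynomial.induction_on' with
    | add p q hp hq => rw [map_add, map_add, LinearMap.add_apply, LinearMap.add_apply, map_add, hp, hq]
    | monomial n c =>
      rw [aeval_monomial, aeval_monomial, Module.End.mul_apply, Module.End.mul_apply, Module.algebraMap_end_apply,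
        Module.algebraMap_end_apply, map_smul]
      congr 1
      induction n generalizing u with
      | zero => rfl
      | succ n ih =>
        rw [pow_succ, pow_succ, Module.End.mul_apply, Module.End.mul_apply, ih]
        congr 1
        exact hγ u
  obtain ⟨U, V, hUV⟩ := h
  refine LinearMap.ext fun u => ?_
  have h2 : u = aeval (a : Module.End F M) (U * P + V * Q) u := by rw [hUV, map_one]; rfl
  have h3 : γ u = aeval (b : Module.End F N) (U * P + V * Q) (γ u) := by
    conv_lhs => rw [h2]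
    rw [h1]
  have h4 : aeval (b : Module.End F N) (V * Q) (γ u) = 0 := by
    rw [map_mul, hQ, mul_zero, LinearMap.zero_apply]
  have h5 : aeval (b : Module.End F N) (U * P) (γ u) = 0 := by
    rw [← h1, map_mul, hP, mul_zero, LinearMap.zero_apply, map_zero]
  rw [h3, map_add, LinearMap.add_apply, h4, h5, add_zero, LinearMap.zero_apply]

theorem Hyp.exists_pow (h : Hyp B q d) (hd : 2 * d + 1 < q) {a : M ≃ₗ[F] M} (ha : ∀ u v, B (a u) (a v) = B u v)
    (hq : orderOf a = q) : ∃ j : ℕ, orderOf (a ^ j) = q ∧ NI a (a ^ j) ∧ NI (a ^ j) a := by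
  obtain ⟨w, hw, hc⟩ := h.exists_w
  obtain ⟨x, hx, hx1, hxq, hR, hdeg⟩ := h.orbit (K := AlgebraicClosure F) ha hq hw hc
  -- a unit outside
  obtain ⟨c, hcH⟩ : ∃ c : (ZMod q)ˣ, c ∉ HH w := by
    by_contra! hall
    have h1 : HH w = ⊤ := (Subgroup.eq_top_iff' _).2 hall
    rw [h1, Subgroup.card_top, Nat.card_eq_fintype_card, ZMod.card_units] at hc
    omega
  have hcop : Nat.Coprime q (c : ZMod q).val := (ZMod.val_coe_unit_coprime c).symm
  have hpow : ∀ u v, B ((a ^ (c : ZMod q).val) u) ((a ^ (c : ZMod q).val) v) = B u v := by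
    have : ∀ n : ℕ, ∀ u v, B ((a ^ n) u) ((a ^ n) v) = B u v := by
      intro n
      induction n with
      | zero => intro u v; rfl
      | succ n ih => intro u v; rw [pow_succ]; exact (ih _ _).trans (ha _ _)
    exact this _
  have hord : orderOf (a ^ (c : ZMod q).val) = q := by
    have h1 : ∀ n : ℕ, Nat.Coprime q n → orderOf (a ^ n) = q := by
      intro n hn
      have h2 : Nat.Coprime (orderOf a) n := by rw [hq]; exact hn
      rw [h2.orderOf_pow, hq]
    exact h1 _ hcop
  obtain ⟨y, hy, hy1, hyq, hR', -⟩ := h.orbit (K := AlgebraicClosure F) hpow hord hw hc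
  have hcop' : IsCoprime (minpoly F (a : Module.End F M)) (minpoly F ((a ^ (c : ZMod q).val : M ≃ₗ[F] M) : Module.End F M)) := by
    rw [isCoprime_iff_aeval_ne_zero_of_isAlgClosed F (AlgebraicClosure F)]
    intro z
    by_contra! hz
    obtain ⟨hz1, hz2⟩ := hz
    rw [← mem_R] at hz1 hz2
    have hx' : x ^ (c : ZMod q).val ∈ R (AlgebraicClosure F) ((a ^ (c : ZMod q).val : M ≃ₗ[F] M) : Module.End F M) := by
      rw [toEnd_pow]
      exact pow_mem_R _ hx _
    rw [hR] at hz1
    rw [hR'] at hz2 hx'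
    obtain ⟨c1, h1, e1⟩ := hz1
    obtain ⟨c2, h2, e2⟩ := hz2
    obtain ⟨c3, h3, e3⟩ := hx'
    have e1' : x ^ (c1 : ZMod q).val = z := e1
    have e2' : y ^ (c2 : ZMod q).val = z := e2
    have e3' : y ^ (c3 : ZMod q).val = x ^ (c : ZMod q).val := e3
    -- y = x ^ (c * c3⁻¹)
    have e4 : x ^ ((c * c3⁻¹ : (ZMod q)ˣ) : ZMod q).val = y := by
      rw [Units.val_mul, pow_val_mul _ hxq, ← e3', ← pow_val_mul _ hyq, Units.mul_inv]
      have : Fact (1 < q) := ⟨h.prime.one_lt⟩
      rw [ZMod.val_one, pow_one]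
    have e5 : x ^ ((c * c3⁻¹ * c2 : (ZMod q)ˣ) : ZMod q).val = x ^ (c1 : ZMod q).val := by
      rw [Units.val_mul, pow_val_mul _ hxq, e4, e2', e1']
    have e6 := injOn (K := AlgebraicClosure F) hxq hx1 e5
    have e7 : c = c1 * c2⁻¹ * c3 := by rw [← e6]; group
    apply hcH
    rw [e7]
    exact (HH w).mul_mem ((HH w).mul_mem h1 ((HH w).inv_mem h2)) h3
  exact ⟨_, hord, ni_of_coprime (minpoly.aeval _ _) (minpoly.aeval _ _) hcop',
    ni_of_coprime (minpoly.aeval _ _) (minpoly.aeval _ _) hcop'.symm⟩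

end Final

end Eig

end Cfsg.Agent.H17.CR
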