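import Cfsg.Agent.H17.CR.Gen
import Cfsg.Agent.H17.CR.Eig

/-!
# Families of classical groups: the row in cross characteristic (helper17)

`Fam F` : even spaces `E n ε`, spaces `T n ε`, the exponents of their groups and the decompositions;
`Fam.row` : `Cond π` implies an abelian subgroup of index prime to `π`.
-/

set_option autoImplicit false
set_option linter.unusedSectionVars false

open Cfsg
open Cfsg.Agent.H749 (Iso)
open Cfsg.Agent.H630.NH

namespace Cfsg.Agent.H17.CR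

/-- odd primes different from the characteristic -/
structure Good (F : Type) [Field F] (p : ℕ) : Prop where
  prime : p.Prime
  ne_two : p ≠ 2
  ne_zero : (p : F) ≠ 0

section Num

variable (F : Type) [Field F] [Fintype F]

/-- the order of `|F| ^ 2` modulo `p` -/
noncomputable def dd (p : ℕ) : ℕ := orderOf ((Fintype.card F : ZMod p) ^ 2)

/-- the exponent of `p` in `|F| ^ (2 d) - 1` -/
noncomputable def vv (p : ℕ) : ℕ := H749.vp p (((Fintype.card F : ℤ) ^ 2) ^ dd F p - 1)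

open Classical in
/-- the number of atoms -/
noncomputable def NN (b : Prop) (d : ℕ) (s : ℤ) (n : ℕ) (ε : ℤ) : ℕ := if b ∧ d ∣ n ∧ s ^ (n / d) ≠ ε then n / d - 1 else n / d

theorem dd_eq (p : ℕ) : orderOf ((((Fintype.card F : ℤ) ^ 2 : ℤ)) : ZMod p) = dd F p := by
  rw [dd]
  push_cast
  rfl

variable {F}

theorem Good.not_dvd {p : ℕ} (h : Good F p) : ¬ p ∣ Fintype.card F := by
  intro h1
  obtain ⟨r, hr⟩ := CharP.exists F
  obtain ⟨n, hpp, hn⟩ := FiniteField.card F r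
  rw [hn] at h1
  have h2 := (Nat.prime_dvd_prime_iff_eq h.prime hpp).1 (h.prime.dvd_of_dvd_pow h1)
  apply h.ne_zero
  rw [h2]
  exact CharP.cast_eq_zero F r

theorem Good.exists_w {p : ℕ} (h : Good F p) [Fact p.Prime] :
    ∃ w : (ZMod p)ˣ, (w : ZMod p) = Fintype.card F ∧ Nat.card (Eig.HH w) = 2 * dd F p := by
  have hq : (Fintype.card F : ZMod p) ≠ 0 := by
    intro h1
    rw [ZMod.natCast_eq_zero_iff] at h1
    exact h.not_dvd h1
  refine ⟨Units.mk0 _ hq, rfl, Eig.card_HH h.ne_two _ ?_⟩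
  rw [dd, ← orderOf_units, Units.val_pow_eq_pow_val, Units.val_mk0]

theorem Good.dd_pos {p : ℕ} (h : Good F p) : 0 < dd F p := by
  have := Fact.mk h.prime
  obtain ⟨w, -, hw⟩ := h.exists_w
  have : 0 < Nat.card (Eig.HH w) := Nat.card_pos
  omega

theorem Good.two_dd {p : ℕ} (h : Good F p) : 2 * dd F p + 1 ≤ p := by
  have := Fact.mk h.prime
  obtain ⟨w, -, hw⟩ := h.exists_w
  have h1 : Nat.card (Eig.HH w) ≤ Nat.card (ZMod p)ˣ := Nat.le_of_dvd Nat.card_pos (Subgroup.card_subgroup_dvd_card _)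
  rw [Nat.card_eq_fintype_card (α := (ZMod p)ˣ), ZMod.card_units, hw] at h1
  have := h.prime.one_lt
  omega

theorem one_lt_card : 1 < Fintype.card F := Fintype.one_lt_card

theorem Good.vv_pos {p : ℕ} (h : Good F p) : 0 < vv F p := by
  have := Fact.mk h.prime
  unfold vv
  refine H749.vp_pos (sub_ne_zero.2 ?_) ((H749.dvd_pow_sub_one_iff _).2 (dd_eq F p).dvd)
  rw [← pow_mul]
  have h1 : 1 < Fintype.card F := one_lt_card
  have h2 := Nat.one_lt_pow (n := 2 * dd F p) (by have := h.dd_pos; omega) h1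
  intro h3
  have h4 : (Fintype.card F) ^ (2 * dd F p) = 1 := by exact_mod_cast h3
  omega

theorem NN_self {b : Prop} {d : ℕ} (hd : 0 < d) (s : ℤ) (k : ℕ) : NN b d s (k * d) (s ^ k) = k := by
  unfold NN
  rw [Nat.mul_div_cancel _ hd, if_neg (fun h => h.2.2 rfl)]

theorem NN_one {b : Prop} {d : ℕ} (hd : 0 < d) (s : ℤ) : NN b d s d s = 1 := by
  have h := NN_self (b := b) hd s 1
  rwa [one_mul, pow_one] at h

theorem NN_lt {b : Prop} {d n : ℕ} (h : n < d) (s ε : ℤ) : NN b d s n ε = 0 := by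
  unfold NN
  rw [Nat.div_eq_of_lt h]
  split_ifs <;> rfl

theorem NN_ne {b : Prop} (hb : b) {d : ℕ} (hd : 0 < d) {s ε : ℤ} (h : s ≠ ε) : NN b d s d ε = 0 := by
  unfold NN
  rw [Nat.div_self hd, pow_one, if_pos ⟨hb, dvd_refl d, h⟩]

theorem NN_le {b : Prop} {d n : ℕ} (s ε : ℤ) : NN b d s n ε ≤ n / d := by
  unfold NN
  split_ifs
  · exact Nat.sub_le _ _
  · exact le_refl _

theorem NN_mul_le {b : Prop} {d n : ℕ} (s ε : ℤ) {k : ℕ} (hk : k ≤ NN b d s n ε) : k * d ≤ n :=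
  (Nat.mul_le_mul_right d (hk.trans (NN_le s ε))).trans (Nat.div_mul_le_self n d)

theorem pm_mul {s t : ℤ} (hs : s = 1 ∨ s = -1) (ht : t = 1 ∨ t = -1) : s * t = 1 ∨ s * t = -1 := by
  rcases hs with rfl | rfl <;> rcases ht with rfl | rfl <;> simp

theorem pm_pow {s : ℤ} (hs : s = 1 ∨ s = -1) (n : ℕ) : s ^ n = 1 ∨ s ^ n = -1 := by
  induction n with
  | zero => left; exact pow_zero s
  | succ n ih => rw [pow_succ]; exact pm_mul ih hs

theorem pm_sq {s : ℤ} (hs : s = 1 ∨ s = -1) : s * s = 1 := by rcases hs with rfl | rfl <;> norm_num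

theorem NN_sub {b : Prop} {d n : ℕ} {s ε : ℤ} (hs : s = 1 ∨ s = -1) {k : ℕ}
    (hk : k ≤ NN b d s n ε) : NN b d s (n - k * d) (ε * s ^ k) = NN b d s n ε - k := by
  have h1 := NN_mul_le s ε hk
  have h2 : (n - k * d) / d = n / d - k := by
    rw [mul_comm, Nat.sub_mul_div]
  have h3 : d ∣ n - k * d ↔ d ∣ n := by
    constructor
    · intro h
      have := dvd_add h (Dvd.intro_left k rfl)
      rwa [Nat.sub_add_cancel h1] at this
    · intro h
      exact Nat.dvd_sub h (Dvd.intro_left k rfl)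
  have h4 : k ≤ n / d := hk.trans (NN_le s ε)
  have h5 : s ^ (n / d - k) = ε * s ^ k ↔ s ^ (n / d) = ε := by
    obtain ⟨m, hm⟩ := Nat.exists_eq_add_of_le h4
    rw [hm, Nat.add_sub_cancel_left, pow_add]
    have h6 := pm_sq (pm_pow hs k)
    constructor
    · intro h
      rw [h]
      linear_combination ε * h6
    · intro h
      rw [← h]
      linear_combination (-s ^ m) * h6
  unfold NN
  rw [h2]
  by_cases hc : b ∧ d ∣ n ∧ s ^ (n / d) ≠ ε
  · rw [if_pos hc, if_pos ⟨hc.1, h3.2 hc.2.1, fun h => hc.2.2 (h5.1 h)⟩]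
    omega
  · rw [if_neg hc, if_neg (fun h => hc ⟨h.1, h3.1 h.2.1, fun h' => h.2.2 (h5.2 h')⟩)]

end Num

/-- families of classical groups -/
structure Fam (F : Type) [Field F] [Fintype F] where
  bE : Prop
  bT : Prop
  /-- signs of the atoms -/
  s : ℕ → ℤ
  E : ℕ → ℤ → Spc F → Prop
  T : ℕ → ℤ → Spc F → Prop
  sgn : ∀ {p : ℕ}, Good F p → s p = 1 ∨ s p = -1
  /-- mixed signs occur only for sign-sensitive atoms -/
  sens : ∀ {p q : ℕ}, s p ≠ s q → bE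
  signT : ∀ {n : ℕ} {ε : ℤ} {X : Spc F}, T n ε X → ε = 1 ∨ ε = -1
  zeroT : bT → ∀ {ε : ℤ} {X : Spc F}, T 0 ε X → ε = 1
  bET : bT → bE
  toE : bT → ∀ {n : ℕ} {ε : ℤ} {X : Spc F}, T n ε X → E n ε X
  existsE : ∀ {n : ℕ}, 1 ≤ n → ∀ {ε : ℤ}, ε = 1 ∨ ε = -1 → ∃ U, E n ε U
  zeroE : ∃ U, E 0 1 U ∧ Subsingleton U.V
  isoE : ∀ {n : ℕ} {ε : ℤ} {U U' : Spc F}, E n ε U → E n ε U' → Nonempty (U.G ≃* U'.G)
  addE : ∀ {n m : ℕ} {ε ε' : ℤ} {U M : Spc F}, E n ε U → E m ε' M → E (n + m) (ε * ε') (U.prod M)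
  hypE : ∀ {n : ℕ} {ε : ℤ} {U : Spc F}, E n ε U → ∃ B : U.V → U.V → F, Eig.Bil B ∧
    (∀ g : U.G, ∀ u v, B (g.1 u) (g.1 v) = B u v) ∧ Module.finrank F U.V = 2 * n
  evE : ∀ {n : ℕ} {ε : ℤ} {U : Spc F}, E n ε U → ∀ {p : ℕ}, Good F p →
    ev p U.G = nu p (vv F p) (NN bE (dd F p) (s p) n ε)
  evT : ∀ {n : ℕ} {ε : ℤ} {X : Spc F}, T n ε X → ∀ {p : ℕ}, Good F p →
    ev p X.G = nu p (vv F p) (NN bT (dd F p) (s p) n ε)
  splitT : ∀ {n : ℕ} {ε : ℤ} {X : Spc F}, T n ε X → ∀ {m : ℕ} {ε' : ℤ}, m ≤ n → (ε' = 1 ∨ ε' = -1) →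
    (bT → m = n → ε' = ε) → ∃ X', T (n - m) (ε * ε') X' ∧ ∀ U, E m ε' U → Nonempty (X.G ≃* (U.prod X').G)

namespace Fam

variable {F : Type} [Field F] [Fintype F] (Φ : Fam F)

include Φ

theorem hyp {n : ℕ} {ε : ℤ} {U : Spc F} (h : Φ.E n ε U) {p : ℕ} (hp : Good F p) (hd : dd F p = n) :
    ∃ B : U.V → U.V → F, Eig.Hyp B p n ∧ ∀ g : U.G, ∀ u v, B (g.1 u) (g.1 v) = B u v := by
  obtain ⟨B, hB, hg, hr⟩ := Φ.hypE h
  exact ⟨B, ⟨hp.prime, hp.ne_two, hp.ne_zero, hB, hd, hr⟩, hg⟩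

theorem fix {n : ℕ} {ε : ℤ} {U : Spc F} (h : Φ.E n ε U) {p : ℕ} (hp : Good F p) (hd : dd F p = n) (a : U.G)
    (ha : orderOf a = p) (u : U.V) (hu : a.1 u = u) : u = 0 := by
  have := Fact.mk hp.prime
  have : FiniteDimensional F U.V := Module.Finite.of_finite
  obtain ⟨B, hB, hg⟩ := Φ.hyp h hp hd
  exact hB.fix (hg a) (by rw [Subgroup.orderOf_coe, ha]) u hu

theorem comm {n : ℕ} {ε : ℤ} {U : Spc F} (h : Φ.E n ε U) {p : ℕ} (hp : Good F p) (hd : dd F p = n) (a : U.G)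
    (ha : orderOf a = p) (z z' : U.G) (hz : z * a = a * z) (hz' : z' * a = a * z') : z * z' = z' * z := by
  have := Fact.mk hp.prime
  have : FiniteDimensional F U.V := Module.Finite.of_finite
  obtain ⟨B, hB, hg⟩ := Φ.hyp h hp hd
  exact Subtype.ext (hB.comm (hg a) (by rw [Subgroup.orderOf_coe, ha]) z.1 z'.1 (congrArg Subtype.val hz)
    (congrArg Subtype.val hz'))

theorem two {n : ℕ} {ε : ℤ} {U : Spc F} (h : Φ.E n ε U) {p : ℕ} (hp : Good F p) (hd : dd F p = n)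
    (hlt : 2 * n + 1 < p) (a : U.G) (ha : orderOf a = p) :
    ∃ j : ℕ, orderOf (a ^ j) = p ∧ NI a.1 (a ^ j).1 ∧ NI (a ^ j).1 a.1 := by
  have := Fact.mk hp.prime
  have : FiniteDimensional F U.V := Module.Finite.of_finite
  obtain ⟨B, hB, hg⟩ := Φ.hyp h hp hd
  obtain ⟨j, h1, h2, h3⟩ := hB.exists_pow hlt (hg a) (by rw [Subgroup.orderOf_coe, ha])
  refine ⟨j, ?_, ?_, ?_⟩
  · rw [← Subgroup.orderOf_coe, Subgroup.coe_pow]
    exact h1
  · rw [Subgroup.coe_pow]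
    exact h2
  · rw [Subgroup.coe_pow]
    exact h3

/-- the system of the atoms of one dimension and sign -/
noncomputable def sys {π : Set ℕ} {d : ℕ} {σ : ℤ} (hd : 0 < d) (hσ : σ = 1 ∨ σ = -1) (hπ : ∀ p ∈ π, Good F p)
    (hdd : ∀ p ∈ π, dd F p = d) (hs : ∀ p ∈ π, Φ.s p = σ) : Sys F π d (vv F) (ℕ × ℤ) where
  HU k U := Φ.E (k * d) (σ ^ k) U
  zero := by
    obtain ⟨U, hU, h1⟩ := Φ.zeroE
    exact ⟨U, by rw [zero_mul, pow_zero]; exact hU, h1⟩
  one := by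
    obtain ⟨U, hU⟩ := Φ.existsE (n := d) hd hσ
    exact ⟨U, by rw [one_mul, pow_one]; exact hU⟩
  add := by
    intro k l U M hU hM
    rw [add_mul, pow_add]
    exact Φ.addE hU hM
  iso := fun h h' => Φ.isoE h h'
  evU := by
    intro k U hU p hp
    rw [Φ.evE hU (hπ p hp), hdd p hp, hs p hp, NN_self hd]
  fix := by
    intro M hM p hp a ha u hu
    rw [one_mul] at hM
    exact Φ.fix hM (hπ p hp) (hdd p hp) a ha u hu
  comm := by
    intro M hM p hp a ha z z' hz hz'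
    rw [one_mul] at hM
    exact Φ.comm hM (hπ p hp) (hdd p hp) a ha z z' hz hz'
  two := by
    intro M hM p hp hlt a ha
    rw [one_mul] at hM
    exact Φ.two hM (hπ p hp) (hdd p hp) hlt a ha
  HX t X := Φ.T t.1 t.2 X
  N t := NN Φ.bT d σ t.1 t.2
  evX := by
    intro t X hX p hp
    rw [Φ.evT hX (hπ p hp), hdd p hp, hs p hp]
  split := by
    intro t X hX k hk
    have h1 := NN_mul_le σ t.2 hk
    obtain ⟨X', hX', h2⟩ := Φ.splitT hX (m := k * d) (ε' := σ ^ k) h1 (pm_pow hσ k) (fun hb hm => by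
      by_contra hne
      have h3 : t.1 / d = k := by rw [← hm, Nat.mul_div_cancel _ hd]
      rw [NN, if_pos ⟨hb, Dvd.intro_left k hm, by rw [h3]; exact hne⟩, h3] at hk
      have h4 : k = 0 := by omega
      rw [h4, zero_mul] at hm
      rw [h4, pow_zero] at hne
      rw [← hm] at hX
      exact hne (Φ.zeroT hb hX).symm)
    exact ⟨(t.1 - k * d, t.2 * σ ^ k), X', hX', NN_sub hσ hk, h2⟩

/-- the case of equal dimensions and signs -/
theorem row_same {π : Set ℕ} {d : ℕ} {σ : ℤ} (hd : 0 < d) (hσ : σ = 1 ∨ σ = -1) (hπ : ∀ p ∈ π, Good F p)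
    (hdd : ∀ p ∈ π, dd F p = d) (hs : ∀ p ∈ π, Φ.s p = σ) (hnt : π.Nontrivial) {n : ℕ} {ε : ℤ} {X : Spc F}
    (hX : Φ.T n ε X) (hdv : ∀ p ∈ π, p ∣ Nat.card X.G) (hc : Cond π X.G) : PT π X.G := by
  have h1 : ∀ p ∈ π, p.Prime := fun p hp => (hπ p hp).prime
  refine (Φ.sys hd hσ hπ hdd hs).main h1 hnt (fun p hp => ?_) (fun p hp => (hπ p hp).vv_pos) (t := (n, ε)) hX ?_ hc
  · have := (hπ p hp).two_dd
    rwa [hdd p hp] at this
  · obtain ⟨p, hp⟩ := hnt.nonempty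
    show 1 ≤ NN Φ.bT d σ n ε
    by_contra h
    have h2 : NN Φ.bT d σ n ε = 0 := by omega
    have h3 := Φ.evT hX (hπ p hp)
    rw [hdd p hp, hs p hp, h2, nu_zero] at h3
    exact not_dvd_of_ev (h1 p hp) h3 (hdv p hp)

/-- an element of order `p` of an atom -/
theorem exists_elt {p : ℕ} (hp : Good F p) {U : Spc F} (hU : Φ.E (dd F p) (Φ.s p) U) : ∃ a : U.G, orderOf a = p := by
  have := Fact.mk hp.prime
  refine exists_prime_orderOf_dvd_card' p ?_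
  by_contra h
  have h1 := ev_eq_zero h
  rw [Φ.evE hU hp, NN_one hp.dd_pos, nu_one] at h1
  exact hp.vv_pos.ne' h1

/-- different dimensions of the atoms -/
theorem pa {p q : ℕ} (hp : Good F p) (hq : Good F q) (hlt : dd F p < dd F q) (n : ℕ) :
    ∀ {ε : ℤ} {X : Spc F}, Φ.T n ε X → PA p q X.G := by
  induction n using Nat.strong_induction_on with
  | _ n ih =>
    intro ε X hX
    by_cases hn : n < dd F q
    · refine PA.base hq.prime (not_dvd_of_ev hq.prime ?_)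
      rw [Φ.evT hX hq, NN_lt hn, nu_zero]
    · obtain ⟨U, hU⟩ := Φ.existsE (n := dd F p) hp.dd_pos (Φ.sgn hp)
      obtain ⟨X', hX', h1⟩ := Φ.splitT hX (m := dd F p) (ε' := Φ.s p) (by omega) (Φ.sgn hp)
        (fun _ hm => by omega)
      obtain ⟨e⟩ := h1 U hU
      have h2 := ih (n - dd F p) (by have := hp.dd_pos; omega) hX'
      obtain ⟨a, ha⟩ := Φ.exists_elt hp hU
      refine PA.congr (PA.step hq.prime a ⟨1, by rw [ha, pow_one]⟩ (Φ.fix hU hp rfl a ha) ?_ h2) e.symm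
      refine not_dvd_of_ev hq.prime ?_
      rw [Φ.evE hU hq, NN_lt hlt, nu_zero]

theorem not_cond_of_dd {π : Set ℕ} (hπ : ∀ p ∈ π, Good F p) {n : ℕ} {ε : ℤ} {X : Spc F} (hX : Φ.T n ε X)
    (hdv : ∀ p ∈ π, p ∣ Nat.card X.G) {p q : ℕ} (hp : p ∈ π) (hq : q ∈ π) (hlt : dd F p < dd F q) : ¬ Cond π X.G :=
  PA.not_cond (hπ p hp).prime (hπ q hq).prime hp hq (fun h => by rw [h] at hlt; exact lt_irrefl _ hlt) (hdv q hq)
    (Φ.pa (hπ p hp) (hπ q hq) hlt n hX)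

/-- one `q`-atom -/
theorem not_cond_one {π : Set ℕ} (hπ : ∀ p ∈ π, Good F p) {d : ℕ} (hdd : ∀ p ∈ π, dd F p = d) {n : ℕ} {ε : ℤ}
    {X : Spc F} (hX : Φ.T n ε X) {p q : ℕ} (hp : p ∈ π) (hq : q ∈ π) (hs : Φ.s p ≠ Φ.s q) (hdn : d ≤ n)
    (h0 : Φ.bT → n = d → Φ.s q = ε) (hN : NN Φ.bT d (Φ.s p) (n - d) (ε * Φ.s q) < NN Φ.bT d (Φ.s p) n ε) :
    ¬ Cond π X.G := by
  intro hc
  have hqg := hπ q hq
  have hpg := hπ p hp
  have hd : 0 < d := by rw [← hdd p hp]; exact hpg.dd_pos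
  obtain ⟨U, hU⟩ := Φ.existsE (n := d) hd (Φ.sgn hqg)
  obtain ⟨X', hX', h1⟩ := Φ.splitT hX (m := d) (ε' := Φ.s q) hdn (Φ.sgn hqg) (fun hb hm => h0 hb hm.symm)
  obtain ⟨e⟩ := h1 U hU
  obtain ⟨a, ha⟩ := Φ.exists_elt hqg (U := U) (by rw [hdd q hq]; exact hU)
  have hfix := Φ.fix hU hqg (hdd q hq) a ha
  have n1 : NI a.1 (1 : X'.G).1 := NI.one_right hfix
  have n2 : NI (1 : X'.G).1 a.1 := NI.one_left hfix
  have e1 := ev_centralizer_le p n1 n2
  have e3 := ev_subgroup_le p (Subgroup.centralizer ({a} : Set U.G))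
  have e5 := ev_subgroup_le p (Subgroup.centralizer ({(1 : X'.G)} : Set X'.G))
  rw [Φ.evE hU hpg, hdd p hp, NN_ne (Φ.sens hs) hd hs, nu_zero] at e3
  rw [Φ.evT hX' hpg, hdd p hp] at e5
  have e6 : ev p (U.prod X').G = nu p (vv F p) (NN Φ.bT d (Φ.s p) n ε) := by
    rw [← ev_congr p e, Φ.evT hX hpg, hdd p hp]
  have e7 := nu_lt (p := p) hpg.vv_pos hN
  refine not_cond_of_ev hpg.prime hp hq (fun h => hs (by rw [h])) (emb U X' (a, 1)) ⟨1, ?_⟩ ?_ (hc.congr e)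
  · rw [orderOf_injective (emb U X') emb_injective, Prod.orderOf, pow_one]
    simp [ha]
  · rw [e6]
    omega

/-- two `q`-atoms -/
theorem not_cond_two {π : Set ℕ} (hπ : ∀ p ∈ π, Good F p) {d : ℕ} (hdd : ∀ p ∈ π, dd F p = d) {n : ℕ} {ε : ℤ}
    {X : Spc F} (hX : Φ.T n ε X) {p q : ℕ} (hp : p ∈ π) (hq : q ∈ π) (hs : Φ.s p ≠ Φ.s q) (hpq : p < q)
    (hdn : 2 * d < n) (hN : NN Φ.bT d (Φ.s p) (n - 2 * d) ε < NN Φ.bT d (Φ.s p) n ε) :
    ¬ Cond π X.G := by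
  intro hc
  have hqg := hπ q hq
  have hpg := hπ p hp
  have hd : 0 < d := by rw [← hdd p hp]; exact hpg.dd_pos
  have hp2 := hpg.two_dd
  rw [hdd p hp] at hp2
  have hss : Φ.s q * Φ.s q = 1 := pm_sq (Φ.sgn hqg)
  obtain ⟨M, hM⟩ := Φ.existsE (n := d) hd (Φ.sgn hqg)
  have hU := Φ.addE hM hM
  obtain ⟨X', hX', h1⟩ := Φ.splitT hX (m := d + d) (ε' := Φ.s q * Φ.s q) (by omega) (Or.inl hss) (fun hb hm => by omega)
  obtain ⟨e⟩ := h1 _ hU
  obtain ⟨a, ha⟩ := Φ.exists_elt hqg (U := M) (by rw [hdd q hq]; exact hM)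
  obtain ⟨j, hj, h2, h3⟩ := Φ.two hM hqg (hdd q hq) (by omega) a ha
  have hfix := Φ.fix hM hqg (hdd q hq) a ha
  have hfix' := Φ.fix hM hqg (hdd q hq) (a ^ j) hj
  set y : (M.prod M).G := emb M M (a, a ^ j) with hy
  have hyfix : ∀ u, y.1 u = u → u = 0 := by
    rintro ⟨u, w⟩ huw
    have h5 : a.1 u = u := congrArg Prod.fst huw
    have h6 : (a ^ j).1 w = w := congrArg Prod.snd huw
    exact Prod.ext (hfix u h5) (hfix' w h6)
  have n1 : NI y.1 (1 : X'.G).1 := NI.one_right hyfix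
  have n2 : NI (1 : X'.G).1 y.1 := NI.one_left hyfix
  have e1 := ev_centralizer_le p n1 n2
  have e2 := ev_centralizer_le (X := M) (Y := M) (a := a) (b := a ^ j) p h2 h3
  have e3 := ev_subgroup_le p (Subgroup.centralizer ({a} : Set M.G))
  have e4 := ev_subgroup_le p (Subgroup.centralizer ({a ^ j} : Set M.G))
  have e5 := ev_subgroup_le p (Subgroup.centralizer ({(1 : X'.G)} : Set X'.G))
  rw [Φ.evE hM hpg, hdd p hp, NN_ne (Φ.sens hs) hd hs, nu_zero] at e3 e4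
  rw [Φ.evT hX' hpg, hdd p hp, hss, mul_one, ← two_mul] at e5
  have e6 : ev p ((M.prod M).prod X').G = nu p (vv F p) (NN Φ.bT d (Φ.s p) n ε) := by
    rw [← ev_congr p e, Φ.evT hX hpg, hdd p hp]
  have e7 := nu_lt (p := p) hpg.vv_pos hN
  refine not_cond_of_ev hpg.prime hp hq hpq.ne (emb (M.prod M) X' (y, 1)) ?_ ?_ (hc.congr e)
  · have h5 : (emb (M.prod M) X' (y, 1)) ^ q = 1 := by
      rw [← map_pow, Prod.pow_mk, one_pow, hy, ← map_pow, Prod.pow_mk]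
      have e8 : a ^ q = 1 := by rw [← ha, pow_orderOf_eq_one]
      have e9 : (a ^ j) ^ q = 1 := by
        conv_lhs => rw [← hj]
        exact pow_orderOf_eq_one _
      rw [e8, e9]
      have : emb M M (1, 1) = 1 := map_one _
      rw [this]
      exact map_one _
    rcases (Nat.dvd_prime hqg.prime).1 (orderOf_dvd_of_pow_eq_one h5) with h6 | h6
    · exact ⟨0, by rw [h6, pow_zero]⟩
    · exact ⟨1, by rw [h6, pow_one]⟩
  · rw [e6]
    rw [← hy] at e2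
    omega

/-- one block of two -/
theorem pt_block {π : Set ℕ} (hπ : ∀ p ∈ π, Good F p) {d : ℕ} (hdd : ∀ p ∈ π, dd F p = d)
    {X : Spc F} (hX : Φ.T (2 * d) (-1) X) (hb : Φ.bT) {p : ℕ} (hp : p ∈ π) (hc : Cond π X.G) :
    ∃ M X', Φ.E d (Φ.s p) M ∧ Φ.E d (-Φ.s p) X' ∧ Nonempty (X.G ≃* (M.prod X').G) ∧
      (∀ r ∈ π, ev r (M.prod X').G = ev r M.G + ev r X'.G) ∧ ∀ M, Φ.E d (Φ.s p) M → PT π M.G := by
  have hpg := hπ p hp
  have hd : 0 < d := by rw [← hdd p hp]; exact hpg.dd_pos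
  have hsp := Φ.sgn hpg
  obtain ⟨M, hM⟩ := Φ.existsE (n := d) hd hsp
  obtain ⟨X', hX', h1⟩ := Φ.splitT hX (m := d) (ε' := Φ.s p) (by omega) hsp (fun _ hm => by omega)
  have h2 : 2 * d - d = d := by omega
  rw [h2, neg_one_mul] at hX'
  have hv : ∀ M, Φ.E d (Φ.s p) M → ∀ r ∈ π, ev r (M.prod X').G = ev r M.G + ev r X'.G := by
    intro M hM r hr
    obtain ⟨e⟩ := h1 M hM
    have hrg := hπ r hr
    rw [← ev_congr r e, Φ.evT hX hrg, Φ.evE hM hrg, Φ.evE (Φ.toE hb hX') hrg, hdd r hr]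
    have h3 : NN Φ.bT d (Φ.s r) (2 * d) (-1) = 1 := by
      unfold NN
      rw [Nat.mul_div_cancel _ hd, if_pos ⟨hb, Dvd.intro_left 2 rfl, by
        rw [sq, pm_sq (Φ.sgn hrg)]; norm_num⟩]
    by_cases hs : Φ.s r = Φ.s p
    · have hne : Φ.s p ≠ -Φ.s p := by
        rcases hsp with h | h <;> rw [h] <;> norm_num
      rw [h3, hs, NN_one hd, NN_ne (Φ.bET hb) hd hne, nu_zero, add_zero]
    · have h4 : Φ.s r = - Φ.s p := by
        rcases hsp with h | h <;> rcases Φ.sgn hrg with h' | h' <;> rw [h, h'] at hs ⊢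
        · exact absurd rfl hs
        · norm_num
        · exact absurd rfl hs
      rw [h3, NN_ne (Φ.bET hb) hd hs, h4, NN_one hd, nu_zero, zero_add]
  refine ⟨M, X', hM, Φ.toE hb hX', h1 M hM, hv M hM, fun M hM => ?_⟩
  obtain ⟨e⟩ := h1 M hM
  refine PT.of_cond (fun p hp => (hπ p hp).prime) hp (hc.congr e) (hv M hM) ?_ (Φ.fix hM hpg (hdd p hp))
    (Φ.comm hM hpg (hdd p hp))
  obtain ⟨a, ha⟩ := Φ.exists_elt hpg (U := M) (by rw [hdd p hp]; exact hM)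
  rw [← ha]
  exact orderOf_dvd_natCard a

/-- two atoms of different signs -/
theorem pt_two {π : Set ℕ} (hπ : ∀ p ∈ π, Good F p) {d : ℕ} (hdd : ∀ p ∈ π, dd F p = d)
    {X : Spc F} (hX : Φ.T (2 * d) (-1) X) (hb : Φ.bT) {p q : ℕ} (hp : p ∈ π) (hq : q ∈ π) (hs : Φ.s p ≠ Φ.s q)
    (hc : Cond π X.G) : PT π X.G := by
  obtain ⟨M, X', hM, hX', ⟨e⟩, hv, hPT⟩ := Φ.pt_block hπ hdd hX hb hp hc
  obtain ⟨-, -, -, -, -, -, hPT'⟩ := Φ.pt_block hπ hdd hX hb hq hc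
  have h4 : - Φ.s p = Φ.s q := by
    rcases Φ.sgn (hπ p hp) with h | h <;> rcases Φ.sgn (hπ q hq) with h' | h' <;> rw [h, h'] at hs ⊢
    · exact absurd rfl hs
    · norm_num
    · exact absurd rfl hs
  rw [h4] at hX'
  exact PT.congr (PT.prod (fun p hp => (hπ p hp).prime) (hPT M hM) (hPT' X' hX') hv) e.symm

/-- **The row.** -/
theorem row {π : Set ℕ} (hπ : ∀ p ∈ π, Good F p) (hnt : π.Nontrivial) {n : ℕ} {ε : ℤ} {X : Spc F}
    (hX : Φ.T n ε X) (hdv : ∀ p ∈ π, p ∣ Nat.card X.G) (hc : Cond π X.G) : PT π X.G := by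
  obtain ⟨p₀, hp₀⟩ := hnt.nonempty
  -- equal dimensions
  have hdd : ∀ p ∈ π, dd F p = dd F p₀ := by
    intro p hp
    rcases lt_trichotomy (dd F p) (dd F p₀) with h | h | h
    · exact absurd hc (Φ.not_cond_of_dd hπ hX hdv hp hp₀ h)
    · exact h
    · exact absurd hc (Φ.not_cond_of_dd hπ hX hdv hp₀ hp h)
  obtain ⟨d, hd⟩ : ∃ d, d = dd F p₀ := ⟨_, rfl⟩
  rw [← hd] at hdd
  have hd0 : 0 < d := by rw [hd]; exact (hπ p₀ hp₀).dd_pos
  by_cases hs : ∀ p ∈ π, Φ.s p = Φ.s p₀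
  · exact Φ.row_same hd0 (Φ.sgn (hπ p₀ hp₀)) hπ hdd hs hnt hX hdv hc
  push Not at hs
  obtain ⟨p₁, hp₁, hs₁⟩ := hs
  -- every prime has a partner
  have hpart : ∀ p ∈ π, ∃ q ∈ π, Φ.s p ≠ Φ.s q := by
    intro p hp
    by_cases h : Φ.s p = Φ.s p₀
    · exact ⟨p₁, hp₁, by rw [h]; exact hs₁.symm⟩
    · exact ⟨p₀, hp₀, h⟩
  have hneg : ∀ p ∈ π, ∀ q ∈ π, Φ.s p ≠ Φ.s q → Φ.s q = - Φ.s p := by
    intro p hp q hq hpq
    rcases Φ.sgn (hπ p hp) with h | h <;> rcases Φ.sgn (hπ q hq) with h' | h' <;> rw [h, h'] at hpq ⊢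
    · exact absurd rfl hpq
    · norm_num
    · exact absurd rfl hpq
  -- the number of atoms is positive
  have hNN : ∀ p ∈ π, 1 ≤ NN Φ.bT d (Φ.s p) n ε := by
    intro p hp
    by_contra h
    have h2 : NN Φ.bT d (Φ.s p) n ε = 0 := by omega
    have h3 := Φ.evT hX (hπ p hp)
    rw [hdd p hp, h2, nu_zero] at h3
    exact not_dvd_of_ev (hπ p hp).prime h3 (hdv p hp)
  have hdn : d ≤ n := by
    have := NN_mul_le (Φ.s p₀) ε (hNN p₀ hp₀)
    rwa [one_mul] at this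
  by_cases hb : Φ.bT ∧ d ∣ n
  swap
  · -- one atom
    exfalso
    refine Φ.not_cond_one hπ hdd hX hp₀ hp₁ hs₁.symm hdn (fun h h' => absurd ⟨h, by rw [h']⟩ hb) ?_ hc
    have h1 : NN Φ.bT d (Φ.s p₀) n ε = n / d := if_neg fun h => hb ⟨h.1, h.2.1⟩
    have h2 : NN Φ.bT d (Φ.s p₀) (n - d) (ε * Φ.s p₁) = (n - d) / d := if_neg fun h => hb ⟨h.1, by
      have := dvd_add h.2.1 (dvd_refl d)
      rwa [Nat.sub_add_cancel hdn] at this⟩
    rw [h1, h2]
    have h3 : n / d = (n - d) / d + 1 := by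
      rw [← Nat.add_div_right _ hd0, Nat.sub_add_cancel hdn]
    omega
  obtain ⟨hbT, k, hk⟩ := hb
  subst hk
  have hkd : d * k / d = k := Nat.mul_div_cancel_left k hd0
  have hk1 : 1 ≤ k := by
    rcases Nat.eq_zero_or_pos k with h | h
    · rw [h] at hdn
      omega
    · exact h
  -- the sign of `X` is not `s ^ k`
  have hne : ∀ p ∈ π, Φ.s p ^ k ≠ ε := by
    intro p hp heq
    obtain ⟨q, hq, hpq⟩ := hpart p hp
    have hq' := hneg p hp q hq hpq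
    have h1 : NN Φ.bT d (Φ.s p) (d * k) ε = k := by
      unfold NN
      rw [hkd, if_neg (fun h => h.2.2 heq)]
    refine Φ.not_cond_one hπ hdd hX hp hq hpq hdn (fun _ h => ?_) ?_ hc
    · -- `k = 1`: then `q` does not divide the order
      exfalso
      have hk1' : k = 1 := by
        have : d * k = d * 1 := by omega
        exact Nat.eq_of_mul_eq_mul_left hd0 this
      have h2 := hNN q hq
      rw [hk1', mul_one, NN_ne hbT hd0] at h2
      · omega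
      · rw [← heq, hk1', pow_one]
        exact hpq.symm
    · have h3 : (d * k - d) / d = k - 1 := by
        rw [← Nat.mul_sub_one, Nat.mul_div_cancel_left _ hd0]
      have h4 : NN Φ.bT d (Φ.s p) (d * k - d) (ε * Φ.s q) ≤ k - 1 := by
        have := NN_le (b := Φ.bT) (d := d) (n := d * k - d) (Φ.s p) (ε * Φ.s q)
        rwa [h3] at this
      rw [h1]
      omega
  -- two primes with different signs, `p < q`
  obtain ⟨p, hp, q, hq, hpq, hlt⟩ : ∃ p ∈ π, ∃ q ∈ π, Φ.s p ≠ Φ.s q ∧ p < q := by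
    rcases lt_trichotomy p₀ p₁ with h | h | h
    · exact ⟨p₀, hp₀, p₁, hp₁, hs₁.symm, h⟩
    · exact absurd (by rw [h]) hs₁
    · exact ⟨p₁, hp₁, p₀, hp₀, hs₁, h⟩
  have hε : ε = -1 := by
    rcases Φ.signT hX with h | h
    · exfalso
      rcases Φ.sgn (hπ p hp) with h' | h'
      · exact hne p hp (by rw [h', one_pow, h])
      · refine hne q hq ?_
        rw [hneg p hp q hq hpq, h', neg_neg, one_pow, h]
    · exact h
  have hev : Even k := by
    rw [← Nat.not_odd_iff_even]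
    intro hodd
    rcases Φ.sgn (hπ p hp) with h' | h'
    · refine hne q hq ?_
      rw [hneg p hp q hq hpq, h', hodd.neg_one_pow, hε]
    · exact hne p hp (by rw [h', hodd.neg_one_pow, hε])
  rcases Nat.lt_or_ge 2 k with hk2 | hk2
  · exfalso
    refine Φ.not_cond_two hπ hdd hX hp hq hpq hlt ?_ ?_ hc
    · rw [mul_comm]
      exact Nat.mul_lt_mul_of_pos_left hk2 hd0
    · have h1 : NN Φ.bT d (Φ.s p) (d * k) ε = k - 1 := by
        unfold NN
        rw [hkd, if_pos ⟨hbT, Dvd.intro k rfl, hne p hp⟩]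
      have h3 : (d * k - 2 * d) / d = k - 2 := by
        rw [mul_comm 2 d, ← Nat.mul_sub, Nat.mul_div_cancel_left _ hd0]
      have h4 : NN Φ.bT d (Φ.s p) (d * k - 2 * d) ε ≤ k - 2 := by
        have := NN_le (b := Φ.bT) (d := d) (n := d * k - 2 * d) (Φ.s p) ε
        rwa [h3] at this
      rw [h1]
      omega
  · have hk' : k = 2 := by
      rcases hev with ⟨m, hm⟩
      omega
    rw [hk', hε, mul_comm] at hX
    exact Φ.pt_two hπ hdd hX hbT hp hq hpq hc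

end Fam

end Cfsg.Agent.H17.CR
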