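import Cfsg.Agent.H17.CR.Blocks

/-!
# The generic argument: all primes with the same atoms (helper17)

`Sys` : sums of `k` atoms, spaces with `N t` atoms. `Sys.main` : `Cond π` implies an abelian subgroup of index prime
to `π`.
-/

set_option autoImplicit false
set_option linter.unusedSectionVars false

open Cfsg
open Cfsg.Agent.H749 (Iso)
open Cfsg.Agent.H630.NH

namespace Cfsg.Agent.H17.CR

/-- `N v + v_p (N!)` -/
noncomputable def nu (p v N : ℕ) : ℕ := N * v + (N.factorial).factorization p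

theorem nu_zero (p v : ℕ) : nu p v 0 = 0 := by simp [nu]

theorem nu_one (p v : ℕ) : nu p v 1 = v := by simp [nu]

theorem nu_small {p v N : ℕ} (hp : p.Prime) (h : N < p) : nu p v N = N * v := by
  rw [nu, Nat.factorization_eq_zero_of_not_dvd (fun h1 => by
    rw [hp.dvd_factorial] at h1; omega), add_zero]

theorem nu_mono {p v N N' : ℕ} (h : N ≤ N') : nu p v N ≤ nu p v N' := by
  unfold nu
  have h1 : N * v ≤ N' * v := Nat.mul_le_mul_right _ h
  have h2 := (Nat.factorization_le_iff_dvd (Nat.factorial_ne_zero N) (Nat.factorial_ne_zero N')).2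
    (Nat.factorial_dvd_factorial h) p
  omega

theorem nu_lt {p v N N' : ℕ} (hv : 0 < v) (h : N < N') : nu p v N < nu p v N' := by
  unfold nu
  have h1 : N * v < N' * v := Nat.mul_lt_mul_of_pos_right h hv
  have h2 := (Nat.factorization_le_iff_dvd (Nat.factorial_ne_zero N) (Nat.factorial_ne_zero N')).2
    (Nat.factorial_dvd_factorial h.le) p
  omega

theorem nu_beta {p v N : ℕ} (hp : p.Prime) (h : p ≤ N) :
    nu p v (N % p) + nu p v 1 + nu p v (N - (N % p + 1)) < nu p v N := by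
  have hc0 : N % p < p := Nat.mod_lt _ hp.pos
  obtain ⟨m, hm⟩ : ∃ m, N = N % p + (m + 1) := ⟨N - N % p - 1, by omega⟩
  have hdm : p ∣ m + 1 := by
    have h1 : m + 1 = N - N % p := by omega
    rw [h1]
    exact Nat.dvd_sub_mod N
  have e1 : N - (N % p + 1) = m := by omega
  rw [e1, nu_small hp hc0, nu_one]
  unfold nu
  have h2 : (m + 1).factorial ∣ N.factorial := Nat.factorial_dvd_factorial (by omega)
  have h3 := (Nat.factorization_le_iff_dvd (Nat.factorial_ne_zero (m + 1)) (Nat.factorial_ne_zero N)).2 h2 p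
  have h3' : (m + 1).factorial.factorization p = (m + 1).factorization p + m.factorial.factorization p := by
    rw [Nat.factorial_succ, Nat.factorization_mul (Nat.succ_ne_zero _) (Nat.factorial_ne_zero _), Finsupp.add_apply]
  have h4 : 0 < (m + 1).factorization p := hp.factorization_pos_of_dvd (Nat.succ_ne_zero _) hdm
  have h5 : N * v = (N % p) * v + v + m * v := by
    conv_lhs => rw [hm]
    ring
  omega

variable {F : Type} [Field F]

/-- the axioms -/
structure Sys (F : Type) [Field F] (π : Set ℕ) (d : ℕ) (v : ℕ → ℕ) (τ : Type) where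
  /-- sums of `k` atoms -/
  HU : ℕ → Spc F → Prop
  zero : ∃ U, HU 0 U ∧ Subsingleton U.V
  one : ∃ M, HU 1 M
  add : ∀ {k l : ℕ} {U M : Spc F}, HU k U → HU l M → HU (k + l) (U.prod M)
  iso : ∀ {U U' : Spc F}, HU 1 U → HU 1 U' → Nonempty (U.G ≃* U'.G)
  evU : ∀ {k : ℕ} {U : Spc F}, HU k U → ∀ p ∈ π, ev p U.G = nu p (v p) k
  fix : ∀ {M : Spc F}, HU 1 M → ∀ p ∈ π, ∀ a : M.G, orderOf a = p → ∀ u, a.1 u = u → u = 0
  comm : ∀ {M : Spc F}, HU 1 M → ∀ p ∈ π, ∀ a : M.G, orderOf a = p → ∀ z z' : M.G, z * a = a * z →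
    z' * a = a * z' → z * z' = z' * z
  two : ∀ {M : Spc F}, HU 1 M → ∀ p ∈ π, 2 * d + 1 < p → ∀ a : M.G, orderOf a = p →
    ∃ j : ℕ, orderOf (a ^ j) = p ∧ NI a.1 (a ^ j).1 ∧ NI (a ^ j).1 a.1
  /-- the spaces of type `t` -/
  HX : τ → Spc F → Prop
  N : τ → ℕ
  evX : ∀ {t : τ} {X : Spc F}, HX t X → ∀ p ∈ π, ev p X.G = nu p (v p) (N t)
  split : ∀ {t : τ} {X : Spc F}, HX t X → ∀ k : ℕ, k ≤ N t → ∃ t' X', HX t' X' ∧ N t' = N t - k ∧
    ∀ U, HU k U → Nonempty (X.G ≃* (U.prod X').G)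

namespace Sys

variable {π : Set ℕ} {d : ℕ} {v : ℕ → ℕ} {τ : Type} (S : Sys F π d v τ)

include S

theorem exists_sum (hπ : ∀ p ∈ π, p.Prime) {q : ℕ} (hq : q ∈ π) {M : Spc F} (hM : S.HU 1 M) (a b : M.G)
    (ha : orderOf a = q) (hb : orderOf b = q) (hab : NI a.1 b.1) (hba : NI b.1 a.1) (k : ℕ) :
    ∃ U : Spc F, S.HU k U ∧ ∃ aU : U.G, aU ^ q = 1 ∧ (∀ u, aU.1 u = u → u = 0) ∧ NI aU.1 b.1 ∧ NI b.1 aU.1 := by
  induction k with
  | zero =>
    obtain ⟨U, hU, hs⟩ := S.zero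
    refine ⟨U, hU, 1, one_pow _, fun u _ => Subsingleton.elim _ _, fun γ _ => ?_, fun γ _ => ?_⟩
    · refine LinearMap.ext fun u => ?_
      rw [Subsingleton.elim u 0, map_zero, LinearMap.zero_apply]
    · exact LinearMap.ext fun u => Subsingleton.elim _ _
  | succ k ih =>
    obtain ⟨U, hU, aU, h1, h2, h3, h4⟩ := ih
    refine ⟨U.prod M, S.add hU hM, emb U M (aU, a), ?_, ?_, ?_, ?_⟩
    · rw [← map_pow, Prod.pow_mk, h1, ← ha, pow_orderOf_eq_one]
      exact map_one _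
    · rintro ⟨u, w⟩ huw
      have h5 : aU.1 u = u := congrArg Prod.fst huw
      have h6 : a.1 w = w := congrArg Prod.snd huw
      exact Prod.ext (h2 u h5) (S.fix hM q hq a ha w h6)
    · exact NI.prod_left h3 hab
    · exact NI.prod_right h4 hba

/-- few atoms -/
theorem lt_of_cond (hπ : ∀ p ∈ π, p.Prime) (h2d : ∀ p ∈ π, 2 * d + 1 ≤ p) (hv : ∀ p ∈ π, 0 < v p)
    {t : τ} {X : Spc F} (hX : S.HX t X) (hc : Cond π X.G) {p q : ℕ} (hp : p ∈ π) (hq : q ∈ π) (hpq : p < q) :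
    S.N t < p := by
  by_contra hN
  rw [not_lt] at hN
  have hpp := hπ p hp
  have hqp := hπ q hq
  have hc0 : S.N t % p < p := Nat.mod_lt _ hpp.pos
  obtain ⟨t', X', hX', hN', hsp⟩ := S.split hX (S.N t % p + 1) (by omega)
  obtain ⟨M, hM⟩ := S.one
  have hd : q ∣ Nat.card M.G := by
    by_contra h
    have h1 := ev_eq_zero h
    rw [S.evU hM q hq, nu_one] at h1
    exact (hv q hq).ne' h1
  have hqf : Fact q.Prime := ⟨hqp⟩
  obtain ⟨a, ha⟩ := exists_prime_orderOf_dvd_card' q hd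
  obtain ⟨j, hj, h1, h2⟩ := S.two hM q hq (lt_of_le_of_lt (h2d p hp) hpq) a ha
  obtain ⟨U, hU, aU, g1, g2, g3, g4⟩ := S.exists_sum hπ hq hM a (a ^ j) ha hj h1 h2 (S.N t % p)
  obtain ⟨e⟩ := hsp _ (S.add hU hM)
  have hc' := hc.congr e
  set y : (U.prod M).G := emb U M (aU, a ^ j) with hy
  have hyfix : ∀ u, y.1 u = u → u = 0 := by
    rintro ⟨u, w⟩ huw
    have h5 : aU.1 u = u := congrArg Prod.fst huw
    have h6 : (a ^ j).1 w = w := congrArg Prod.snd huw
    exact Prod.ext (g2 u h5) (S.fix hM q hq (a ^ j) hj w h6)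
  have n1 : NI y.1 (1 : X'.G).1 := NI.one_right hyfix
  have n2 : NI (1 : X'.G).1 y.1 := NI.one_left hyfix
  have e1 := ev_centralizer_le p n1 n2
  have e2 := ev_centralizer_le (X := U) (Y := M) (a := aU) (b := a ^ j) p g3 g4
  have e3 := ev_subgroup_le p (Subgroup.centralizer ({aU} : Set U.G))
  have e4 := ev_subgroup_le p (Subgroup.centralizer ({a ^ j} : Set M.G))
  have e5 := ev_subgroup_le p (Subgroup.centralizer ({(1 : X'.G)} : Set X'.G))
  rw [S.evU hU p hp] at e3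
  rw [S.evU hM p hp] at e4
  rw [S.evX hX' p hp, hN'] at e5
  have e6 : ev p ((U.prod M).prod X').G = nu p (v p) (S.N t) := by
    rw [← ev_congr p e, S.evX hX p hp]
  have e7 := nu_beta (v := v p) hpp hN
  refine not_cond_of_ev hpp hp hq hpq.ne (emb (U.prod M) X' (y, 1)) ?_ ?_ hc'
  · have h5 : (emb (U.prod M) X' (y, 1)) ^ q = 1 := by
      rw [← map_pow, Prod.pow_mk, one_pow, hy, ← map_pow, Prod.pow_mk, g1, ← hj, pow_orderOf_eq_one]
      have : emb U M (1, 1) = 1 := map_one _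
      rw [this]
      exact map_one _
    rcases (Nat.dvd_prime hqp).1 (orderOf_dvd_of_pow_eq_one h5) with h6 | h6
    · exact ⟨0, by rw [h6, pow_zero]⟩
    · exact ⟨1, by rw [h6, pow_one]⟩
  · rw [e6]
    rw [← hy] at e2
    omega

theorem pt_of_small (hπ : ∀ p ∈ π, p.Prime) {M : Spc F} (hM : S.HU 1 M) (hPT : PT π M.G) (n : ℕ) :
    ∀ {t : τ} {X : Spc F}, S.HX t X → S.N t = n → (∀ p ∈ π, n < p) → PT π X.G := by
  induction n with
  | zero =>
    intro t X hX hn _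
    refine PT.base fun p hp => ?_
    have h1 := S.evX hX p hp
    rw [hn, nu_zero] at h1
    exact not_dvd_of_ev (hπ p hp) h1
  | succ n ih =>
    intro t X hX hn hlt
    obtain ⟨t', X', hX', hN', hsp⟩ := S.split hX 1 (by omega)
    obtain ⟨e⟩ := hsp M hM
    have h1 := ih hX' (by omega) fun p hp => (Nat.lt_succ_self n).trans (hlt p hp)
    refine PT.congr (PT.prod hπ hPT h1 fun p hp => ?_) e.symm
    rw [← ev_congr p e, S.evX hX p hp, S.evX hX' p hp, S.evU hM p hp, hn, hN', hn, nu_small (hπ p hp) (hlt p hp), nu_one,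
      Nat.add_sub_cancel, nu_small (hπ p hp) ((Nat.lt_succ_self n).trans (hlt p hp))]
    ring

/-- **The generic theorem.** -/
theorem main (hπ : ∀ p ∈ π, p.Prime) (hnt : π.Nontrivial) (h2d : ∀ p ∈ π, 2 * d + 1 ≤ p) (hv : ∀ p ∈ π, 0 < v p)
    {t : τ} {X : Spc F} (hX : S.HX t X) (hN : 1 ≤ S.N t) (hc : Cond π X.G) : PT π X.G := by
  have hlt : ∀ p ∈ π, S.N t < p := by
    intro p hp
    obtain ⟨q, hq, hqp⟩ := hnt.exists_ne p
    rcases lt_or_gt_of_ne hqp with h | h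
    · exact (S.lt_of_cond hπ h2d hv hX hc hq hp h).trans h
    · exact S.lt_of_cond hπ h2d hv hX hc hp hq h
  obtain ⟨M, hM⟩ := S.one
  obtain ⟨t', X', hX', hN', hsp⟩ := S.split hX 1 hN
  obtain ⟨e⟩ := hsp M hM
  obtain ⟨q, hq⟩ := hnt.nonempty
  have hPT : PT π M.G := by
    refine PT.of_cond (X := M) (Y := X') hπ hq (hc.congr e) (fun p hp => ?_) ?_ (S.fix hM q hq) (S.comm hM q hq)
    · rw [← ev_congr p e, S.evX hX p hp, S.evX hX' p hp, S.evU hM p hp, hN', nu_small (hπ p hp) (hlt p hp), nu_one,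
        nu_small (hπ p hp) (lt_of_le_of_lt (Nat.sub_le _ _) (hlt p hp))]
      obtain ⟨n, hn⟩ : ∃ n, S.N t = n + 1 := ⟨S.N t - 1, by omega⟩
      rw [hn, Nat.add_sub_cancel]
      ring
    · by_contra h
      have h1 := ev_eq_zero h
      rw [S.evU hM q hq, nu_one] at h1
      exact (hv q hq).ne' h1
  exact S.pt_of_small hπ hM hPT _ hX rfl hlt

end Sys

end Cfsg.Agent.H17.CR
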