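import Cfsg.Agent.H17.CR.Symp
import Cfsg.Agent.H377.ToOmega
import Cfsg.Agent.H377.OddThree
import Cfsg.Agent.S0286
import Cfsg.Agent.S0287
import Cfsg.Agent.S0288

/-!
# The row for the orthogonal groups in cross characteristic (helper17)
-/

set_option autoImplicit false
set_option linter.unusedSectionVars false

open Cfsg
open Cfsg.Agent.H749 (Iso vp)
open Cfsg.Agent.H630.NH
open Cfsg.Agent.H377 Cfsg.Agent.LieClassical.OrthCore Cfsg.Agent.LieClassical.OrthForms Cfsg.Agent.H403.Classify QuadraticMap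

namespace Cfsg.Agent.H17.CR

section Num

variable (F : Type) [Field F] [Fintype F]

open Classical in
/-- the type of the atoms -/
noncomputable def sg (p : ℕ) : ℤ := if (p : ℤ) ∣ (Fintype.card F : ℤ) ^ dd F p - 1 then 1 else -1

theorem sg_pm (p : ℕ) : sg F p = 1 ∨ sg F p = -1 := by
  unfold sg
  split_ifs
  · left; rfl
  · right; rfl

variable {F}

theorem Good.dvd_sg {p : ℕ} (h : Good F p) : (p : ℤ) ∣ (Fintype.card F : ℤ) ^ dd F p - sg F p := by
  have := Fact.mk h.prime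
  unfold sg
  split_ifs with h1
  · exact h1
  · have h2 : (p : ℤ) ∣ ((Fintype.card F : ℤ) ^ 2) ^ dd F p - 1 := (H749.dvd_pow_sub_one_iff _).2 (dd_eq F p).dvd
    have h3 : ((Fintype.card F : ℤ) ^ 2) ^ dd F p - 1 =
        ((Fintype.card F : ℤ) ^ dd F p - 1) * ((Fintype.card F : ℤ) ^ dd F p - (-1)) := by ring
    rw [h3] at h2
    exact ((Nat.prime_iff_prime_int.1 h.prime).dvd_or_dvd h2).resolve_left h1

theorem Good.dvd_sg_pow {p : ℕ} (h : Good F p) (k : ℕ) :
    (p : ℤ) ∣ (Fintype.card F : ℤ) ^ (dd F p * k) - sg F p ^ k := by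
  rw [pow_mul]
  exact h.dvd_sg.trans (sub_dvd_pow_sub_pow _ _ k)

theorem Good.not_dvd_two {p : ℕ} (h : Good F p) : ¬ (p : ℤ) ∣ 2 := by
  intro h1
  have h2 : (p : ℤ) ∣ ((2 : ℕ) : ℤ) := by exact_mod_cast h1
  exact h.ne_two ((Nat.prime_dvd_prime_iff_eq h.prime Nat.prime_two).1 (Int.natCast_dvd_natCast.1 h2))

theorem eq_of_dvd {p : ℕ} (h : Good F p) {a b : ℤ} (ha : a = 1 ∨ a = -1) (hb : b = 1 ∨ b = -1)
    (hd : (p : ℤ) ∣ a - b) : a = b := by
  rcases ha with rfl | rfl <;> rcases hb with rfl | rfl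
  · rfl
  · exact absurd (by simpa using hd) h.not_dvd_two
  · exfalso
    apply h.not_dvd_two
    have := (dvd_neg (α := ℤ)).2 hd
    simpa using this
  · rfl

theorem card_pow_ne {n : ℕ} (hn : n ≠ 0) {ε : ℤ} (hε : ε = 1 ∨ ε = -1) : (Fintype.card F : ℤ) ^ n - ε ≠ 0 := by
  have h1 : 1 < Fintype.card F := one_lt_card
  have h2 := Nat.one_lt_pow hn h1
  have h3 : (1 : ℤ) < (Fintype.card F : ℤ) ^ n := by exact_mod_cast h2
  rcases hε with rfl | rfl
  · omega
  · omega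

theorem pow_ne_one (i : ℕ) (hi : i ≠ 0) : ((Fintype.card F : ℤ) ^ 2) ^ i ≠ 1 := by
  rw [← pow_mul]
  have := card_pow_ne (F := F) (n := 2 * i) (by omega) (Or.inl rfl)
  intro h
  exact this (sub_eq_zero.2 h)

theorem vp_eps {p : ℕ} (hp : Good F p) {n : ℕ} (hn : 1 ≤ n) {ε : ℤ} (hε : ε = 1 ∨ ε = -1) :
    vp p ((Fintype.card F : ℤ) ^ n - ε) + nu p (vv F p) ((n - 1) / dd F p) =
      nu p (vv F p) (NN True (dd F p) (sg F p) n ε) := by
  have := Fact.mk hp.prime
  have hd := hp.dd_pos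
  have hnε : -ε = 1 ∨ -ε = -1 := by rcases hε with rfl | rfl <;> norm_num
  by_cases h : dd F p ∣ n
  · obtain ⟨k, hk⟩ := h
    have hk0 : k ≠ 0 := by
      rintro rfl
      omega
    have hdiv : n / dd F p = k := by rw [hk, Nat.mul_div_cancel_left _ hd]
    have hdiv' : (n - 1) / dd F p = k - 1 := by
      obtain ⟨l, rfl⟩ : ∃ l, k = l + 1 := ⟨k - 1, by omega⟩
      rw [Nat.add_sub_cancel]
      have e : n - 1 = (dd F p - 1) + l * dd F p := by
        rw [hk]
        obtain ⟨e, he⟩ : ∃ e, dd F p = e + 1 := ⟨dd F p - 1, by omega⟩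
        rw [he, Nat.add_sub_cancel]
        ring_nf
        omega
      rw [e, Nat.add_mul_div_right _ _ hd, Nat.div_eq_of_lt (by omega), zero_add]
    have hdk := hp.dvd_sg_pow k
    rw [← hk] at hdk
    by_cases hs : sg F p ^ k = ε
    · -- full power
      have h1 : NN True (dd F p) (sg F p) n ε = k := by
        unfold NN
        rw [hdiv, if_neg (fun h => h.2.2 hs)]
      have h2 : ¬ (p : ℤ) ∣ (Fintype.card F : ℤ) ^ n - (-ε) := by
        intro h3
        rw [hs] at hdk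
        have h4 := dvd_sub h3 hdk
        have h5 : (Fintype.card F : ℤ) ^ n - -ε - ((Fintype.card F : ℤ) ^ n - ε) = ε - (-ε) := by ring
        rw [h5] at h4
        have h6 := eq_of_dvd hp hε hnε h4
        rcases hε with rfl | rfl <;> norm_num at h6
      have h3 : vp p (((Fintype.card F : ℤ) ^ 2) ^ n - 1) = vp p ((Fintype.card F : ℤ) ^ n - ε) := by
        have h4 : ((Fintype.card F : ℤ) ^ 2) ^ n - 1 =
            ((Fintype.card F : ℤ) ^ n - ε) * ((Fintype.card F : ℤ) ^ n - (-ε)) := by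
          have : ε * ε = 1 := pm_sq hε
          linear_combination this
        rw [h4, H749.vp_mul p (card_pow_ne (by omega) hε) (card_pow_ne (by omega) hnε), H749.vp_eq_zero h2, add_zero]
      rw [← h3, H749.vp_factor hp.ne_two (dd_eq F p) (pow_ne_one n (by omega)), if_pos ⟨k, hk⟩, hdiv, hdiv', h1]
      obtain ⟨l, rfl⟩ : ∃ l, k = l + 1 := ⟨k - 1, by omega⟩
      rw [Nat.add_sub_cancel]
      unfold nu vv
      rw [Nat.factorial_succ, Nat.factorization_mul (Nat.succ_ne_zero _) (Nat.factorial_ne_zero _), Finsupp.add_apply]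
      ring
    · have h1 : NN True (dd F p) (sg F p) n ε = k - 1 := by
        unfold NN
        rw [hdiv, if_pos ⟨trivial, ⟨k, hk⟩, hs⟩]
      have h2 : ¬ (p : ℤ) ∣ (Fintype.card F : ℤ) ^ n - ε := by
        intro h3
        have h4 := dvd_sub h3 hdk
        have h5 : (Fintype.card F : ℤ) ^ n - ε - ((Fintype.card F : ℤ) ^ n - sg F p ^ k) = sg F p ^ k - ε := by ring
        rw [h5] at h4
        exact hs (eq_of_dvd hp (pm_pow (sg_pm F p) k) hε h4)
      rw [H749.vp_eq_zero h2, zero_add, hdiv', h1]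
  · have h1 : NN True (dd F p) (sg F p) n ε = n / dd F p := if_neg fun h' => h h'.2.1
    have h2 : ¬ (p : ℤ) ∣ (Fintype.card F : ℤ) ^ n - ε := by
      intro h3
      apply h
      rw [← dd_eq F p]
      refine (H749.dvd_pow_sub_one_iff n).1 ?_
      have h4 : ((Fintype.card F : ℤ) ^ 2) ^ n - 1 =
          ((Fintype.card F : ℤ) ^ n - ε) * ((Fintype.card F : ℤ) ^ n - (-ε)) := by
        have : ε * ε = 1 := pm_sq hε
        linear_combination this
      rw [h4]
      exact Dvd.dvd.mul_right h3 _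
    have h3 : (n - 1) / dd F p = n / dd F p := by
      obtain ⟨l, rfl⟩ : ∃ l, n = l + 1 := ⟨n - 1, by omega⟩
      rw [Nat.add_sub_cancel, Nat.succ_div_of_not_dvd h]
    rw [H749.vp_eq_zero h2, zero_add, h1, h3]

/-- the exponent of `p` in `2 q^a (q ^ n - ε) ∏ (q ^ (2 i) - 1)` -/
theorem num_even {p : ℕ} (hp : Good F p) {n : ℕ} (hn : 1 ≤ n) {ε : ℤ} (hε : ε = 1 ∨ ε = -1) {N : ℕ} {a : ℕ}
    (hN : (N : ℤ) = 2 * (Fintype.card F : ℤ) ^ a * ((Fintype.card F : ℤ) ^ n - ε) *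
      ∏ i ∈ Finset.range (n - 1), (((Fintype.card F : ℤ) ^ 2) ^ (i + 1) - 1)) :
    N.factorization p = nu p (vv F p) (NN True (dd F p) (sg F p) n ε) := by
  have := Fact.mk hp.prime
  have hq : (Fintype.card F : ℤ) ≠ 0 := by exact_mod_cast Fintype.card_ne_zero
  have h1 := congrArg (vp p) hN
  rw [H749.vp_mul p (mul_ne_zero (mul_ne_zero two_ne_zero (pow_ne_zero _ hq)) (card_pow_ne (by omega) hε))
    (Finset.prod_ne_zero_iff.2 fun i _ => sub_ne_zero.2 (pow_ne_one _ (Nat.succ_ne_zero i))),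
    H749.vp_mul p (mul_ne_zero two_ne_zero (pow_ne_zero _ hq)) (card_pow_ne (by omega) hε),
    H749.vp_mul p two_ne_zero (pow_ne_zero _ hq), H749.vp_prod hp.ne_two (dd_eq F p) pow_ne_one, H749.vp_natCast,
    H749.vp_eq_zero hp.not_dvd_two, zero_add] at h1
  have h2 : vp p ((Fintype.card F : ℤ) ^ a) = 0 := by
    apply H749.vp_eq_zero
    intro h4
    exact hp.not_dvd (Int.natCast_dvd_natCast.1 ((Nat.prime_iff_prime_int.1 hp.prime).dvd_of_dvd_pow h4))
  rw [h1, h2, zero_add]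
  exact vp_eps hp hn hε

theorem num_odd {p : ℕ} (hp : Good F p) {n : ℕ} {ε : ℤ} {N : ℕ} {a : ℕ}
    (hN : (N : ℤ) = 2 * (Fintype.card F : ℤ) ^ a *
      ∏ i ∈ Finset.range n, (((Fintype.card F : ℤ) ^ 2) ^ (i + 1) - 1)) :
    N.factorization p = nu p (vv F p) (NN False (dd F p) (sg F p) n ε) := by
  have := Fact.mk hp.prime
  have hq : (Fintype.card F : ℤ) ≠ 0 := by exact_mod_cast Fintype.card_ne_zero
  have h1 := congrArg (vp p) hN
  rw [H749.vp_mul p (mul_ne_zero two_ne_zero (pow_ne_zero _ hq))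
    (Finset.prod_ne_zero_iff.2 fun i _ => sub_ne_zero.2 (pow_ne_one _ (Nat.succ_ne_zero i))),
    H749.vp_mul p two_ne_zero (pow_ne_zero _ hq), H749.vp_prod hp.ne_two (dd_eq F p) pow_ne_one, H749.vp_natCast,
    H749.vp_eq_zero hp.not_dvd_two, zero_add] at h1
  have h2 : vp p ((Fintype.card F : ℤ) ^ a) = 0 := by
    apply H749.vp_eq_zero
    intro h4
    exact hp.not_dvd (Int.natCast_dvd_natCast.1 ((Nat.prime_iff_prime_int.1 hp.prime).dvd_of_dvd_pow h4))
  rw [h1, h2, zero_add]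
  have h3 : NN False (dd F p) (sg F p) n ε = n / dd F p := if_neg fun h => h.1
  rw [h3]
  rfl

theorem cast_prod (n : ℕ) : ((∏ i ∈ Finset.range n, (Fintype.card F ^ (2 * (i + 1)) - 1) : ℕ) : ℤ) =
    ∏ i ∈ Finset.range n, (((Fintype.card F : ℤ) ^ 2) ^ (i + 1) - 1) := by
  rw [Nat.cast_prod]
  refine Finset.prod_congr rfl fun i _ => ?_
  rw [Nat.cast_sub (Nat.one_le_pow _ _ Fintype.card_pos), Nat.cast_pow, pow_mul]
  rfl

end Num

section Spaces

variable {F : Type} [Field F] [Fintype F]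

/-- similar spaces have isomorphic groups -/
theorem iso_of_sim {X Y : Spc F} (e : X.V ≃ₗ[F] Y.V) {c : F} (hc : c ≠ 0) (h : ∀ u v, Y.f (e u) (e v) = c * X.f u v) :
    Nonempty (X.G ≃* Y.G) := by
  have h1 : ∀ g : X.V ≃ₗ[F] X.V, g ∈ X.G → (e.symm.trans g).trans e ∈ Y.G := by
    intro g hg u v
    show Y.f (e (g (e.symm u))) (e (g (e.symm v))) = Y.f u v
    have hg' : X.f (g (e.symm u)) (g (e.symm v)) = X.f (e.symm u) (e.symm v) := hg _ _
    rw [h, hg', ← h, e.apply_symm_apply, e.apply_symm_apply]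
  have h2 : ∀ g : Y.V ≃ₗ[F] Y.V, g ∈ Y.G → (e.trans g).trans e.symm ∈ X.G := by
    intro g hg u v
    show X.f (e.symm (g (e u))) (e.symm (g (e v))) = X.f u v
    have h3 := h (e.symm (g (e u))) (e.symm (g (e v)))
    rw [e.apply_symm_apply, e.apply_symm_apply] at h3
    have hg' : Y.f (g (e u)) (g (e v)) = Y.f (e u) (e v) := hg _ _
    rw [hg', h] at h3
    exact (mul_left_cancel₀ hc h3).symm
  refine ⟨⟨⟨fun g => ⟨_, h1 g.1 g.2⟩, fun g => ⟨_, h2 g.1 g.2⟩, fun g => ?_, fun g => ?_⟩, fun g g' => ?_⟩⟩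
  · refine Subtype.ext (LinearEquiv.ext fun u => ?_)
    show e.symm (e (g.1 (e.symm (e u)))) = g.1 u
    rw [e.symm_apply_apply, e.symm_apply_apply]
  · refine Subtype.ext (LinearEquiv.ext fun u => ?_)
    show e (e.symm (g.1 (e (e.symm u)))) = g.1 u
    rw [e.apply_symm_apply, e.apply_symm_apply]
  · refine Subtype.ext (LinearEquiv.ext fun u => ?_)
    show e (g.1 (g'.1 (e.symm u))) = e (g.1 (e.symm (e (g'.1 (e.symm u)))))
    rw [e.symm_apply_apply]

/-- even orthogonal spaces of type `(n, ε)` -/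
def IsOE (n : ℕ) (ε : ℤ) (X : Spc F) : Prop :=
  ∃ Q : QuadraticForm F X.V, (∀ u v, X.f u v = Q u) ∧ Nondeg Q ∧ Module.finrank F X.V = 2 * n ∧ HasSign (⇑Q) n ε ∧
    (ε = 1 ∨ ε = -1)

/-- odd orthogonal spaces -/
def IsOO (n : ℕ) (X : Spc F) : Prop :=
  ∃ Q : QuadraticForm F X.V, (∀ u v, X.f u v = Q u) ∧ Nondeg Q ∧ Module.finrank F X.V = 2 * n + 1

theorem IsOE.prod {n m : ℕ} {ε ε' : ℤ} {X Y : Spc F} (h : IsOE n ε X) (h' : IsOE m ε' Y) :
    IsOE (n + m) (ε * ε') (X.prod Y) := by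
  have : FiniteDimensional F X.V := Module.Finite.of_finite
  have : FiniteDimensional F Y.V := Module.Finite.of_finite
  obtain ⟨Q, hQ, hnd, hr, hs, hε⟩ := h
  obtain ⟨Q', hQ', hnd', hr', hs', hε'⟩ := h'
  refine ⟨sumQ Q Q', fun u v => ?_, sumQ_nondeg hnd hnd', ?_, hs.prod hs', pm_mul hε hε'⟩
  · show X.f u.1 v.1 + Y.f u.2 v.2 = Q u.1 + Q' u.2
    rw [hQ, hQ']
  · show Module.finrank F (X.V × Y.V) = 2 * (n + m)
    rw [Module.finrank_prod, hr, hr']
    ring

theorem IsOE.prodOdd {n m : ℕ} {ε : ℤ} {X Y : Spc F} (h : IsOE n ε X) (h' : IsOO m Y) :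
    IsOO (n + m) (X.prod Y) := by
  have : FiniteDimensional F X.V := Module.Finite.of_finite
  have : FiniteDimensional F Y.V := Module.Finite.of_finite
  obtain ⟨Q, hQ, hnd, hr, hs, hε⟩ := h
  obtain ⟨Q', hQ', hnd', hr'⟩ := h'
  refine ⟨sumQ Q Q', fun u v => ?_, sumQ_nondeg hnd hnd', ?_⟩
  · show X.f u.1 v.1 + Y.f u.2 v.2 = Q u.1 + Q' u.2
    rw [hQ, hQ']
  · show Module.finrank F (X.V × Y.V) = 2 * (n + m) + 1
    rw [Module.finrank_prod, hr, hr']
    ring

theorem IsOE.zero_eq {ε : ℤ} {X : Spc F} (h : IsOE 0 ε X) : Subsingleton X.V ∧ ε = 1 := by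
  have : FiniteDimensional F X.V := Module.Finite.of_finite
  obtain ⟨Q, hQ, hnd, hr, hs, hε⟩ := h
  have hsub : Subsingleton X.V := Module.finrank_zero_iff.1 (by rw [hr])
  refine ⟨hsub, ?_⟩
  have h1 : HasSign (F := F) (⇑Q) 0 1 := hasSign_zero _ fun v => by rw [Subsingleton.elim v 0, QuadraticMap.map_zero]
  exact (hs.sign_eq h1 hε (Or.inl rfl)).1

theorem IsOE.iso {n : ℕ} {ε : ℤ} {X Y : Spc F} (h : IsOE n ε X) (h' : IsOE n ε Y) :
    ∃ e : X.V ≃ₗ[F] Y.V, ∀ u v, Y.f (e u) (e v) = X.f u v := by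
  have : FiniteDimensional F X.V := Module.Finite.of_finite
  have : FiniteDimensional F Y.V := Module.Finite.of_finite
  rcases Nat.eq_zero_or_pos n with hn | hn
  · subst hn
    have h1 := h.zero_eq.1
    have h1' := h'.zero_eq.1
    obtain ⟨Q, hQ, -, -, -, -⟩ := h
    obtain ⟨Q', hQ', -, -, -, -⟩ := h'
    refine ⟨LinearEquiv.ofFinrankEq _ _ (by rw [Module.finrank_zero_of_subsingleton, Module.finrank_zero_of_subsingleton]), fun u v => ?_⟩
    rw [hQ, hQ', Subsingleton.elim u 0, map_zero, QuadraticMap.map_zero, QuadraticMap.map_zero]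
  · obtain ⟨Q, hQ, hnd, hr, hs, hε⟩ := h
    obtain ⟨Q', hQ', hnd', hr', hs', -⟩ := h'
    rcases hε with rfl | rfl
    · obtain ⟨e, he⟩ := exists_plus hn hr Q hnd hs
      obtain ⟨e', he'⟩ := exists_plus hn hr' Q' hnd' hs'
      refine ⟨e.symm.trans e', fun u v => ?_⟩
      rw [hQ', hQ, LinearEquiv.trans_apply, he', ← he, e.apply_symm_apply]
    · obtain ⟨a, b, hab⟩ := exists_aniso F
      obtain ⟨e, he⟩ := exists_minus hn hr Q hnd hs hab
      obtain ⟨e', he'⟩ := exists_minus hn hr' Q' hnd' hs' hab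
      refine ⟨e.symm.trans e', fun u v => ?_⟩
      rw [hQ', hQ, LinearEquiv.trans_apply, he', ← he, e.apply_symm_apply]

theorem IsOE.isoG {n : ℕ} {ε : ℤ} {X Y : Spc F} (h : IsOE n ε X) (h' : IsOE n ε Y) : Nonempty (X.G ≃* Y.G) := by
  obtain ⟨e, he⟩ := h.iso h'
  exact iso_of_sim e one_ne_zero fun u v => by rw [he, one_mul]

theorem IsOE.plusEquiv {n : ℕ} (hn : 1 ≤ n) {X : Spc F} (h : IsOE n 1 X) :
    Nonempty (isometryGroup F (quadFormPlus n F) ≃* X.G) := by
  obtain ⟨Q, hQ, hnd, hr, hs, -⟩ := h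
  obtain ⟨e, he⟩ := exists_plus hn hr Q hnd hs
  exact ⟨H749.isoEquiv (j := e) (f' := X.f) (c := 1) ⟨one_ne_zero, fun x y => by rw [hQ, he, one_mul]⟩⟩

theorem IsOE.minusEquiv {n : ℕ} (hn : 1 ≤ n) {X : Spc F} (h : IsOE n (-1) X) {a b : F} (hab : Aniso a b) :
    Nonempty (isometryGroup F (quadFormMinus (n - 1) F a b) ≃* X.G) := by
  obtain ⟨Q, hQ, hnd, hr, hs, -⟩ := h
  obtain ⟨e, he⟩ := exists_minus hn hr Q hnd hs hab
  exact ⟨H749.isoEquiv (j := e) (f' := X.f) (c := 1) ⟨one_ne_zero, fun x y => by rw [hQ, he, one_mul]⟩⟩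

theorem IsOO.oddEquiv {n : ℕ} {X : Spc F} (h : IsOO n X) :
    Nonempty (isometryGroup F (quadFormOdd n F) ≃* X.G) := by
  obtain ⟨Q, hQ, hnd, hr⟩ := h
  obtain ⟨c, e, hc, he⟩ := exists_similar_odd hr Q hnd
  exact ⟨H749.isoEquiv (j := e) (f' := X.f) (c := c) ⟨hc, fun x y => by rw [hQ, he, coe_oddForm]⟩⟩

theorem IsOE.evE {n : ℕ} {ε : ℤ} {X : Spc F} (h : IsOE n ε X) {p : ℕ} (hp : Good F p) :
    ev p X.G = nu p (vv F p) (NN True (dd F p) (sg F p) n ε) := by
  rcases Nat.eq_zero_or_pos n with hn | hn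
  · subst hn
    have hsub := h.zero_eq.1
    have h1 : Nat.card X.G = 1 := by
      rw [Nat.card_eq_one_iff_unique]
      refine ⟨⟨fun a b => Subtype.ext (LinearEquiv.ext fun u => Subsingleton.elim _ _)⟩, ⟨1⟩⟩
    rw [NN_lt hp.dd_pos, nu_zero]
    unfold CR.ev
    rw [h1, Nat.factorization_one]
    rfl
  · have hε : ε = 1 ∨ ε = -1 := by
      obtain ⟨Q, hQ, hnd, hr, hs, hε⟩ := h
      exact hε
    unfold CR.ev
    rcases hε with rfl | rfl
    · obtain ⟨e⟩ := h.plusEquiv hn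
      refine num_even hp hn (Or.inl rfl) (a := n * (n - 1)) ?_
      rw [← Nat.card_congr e.toEquiv, S0287.result (F := F) (q := Fintype.card F) rfl n hn, Nat.cast_mul, Nat.cast_mul,
        cast_prod, Nat.cast_mul, Nat.cast_sub (Nat.one_le_pow _ _ Fintype.card_pos)]
      push_cast
      rfl
    · obtain ⟨a, b, hab⟩ := exists_aniso F
      obtain ⟨e⟩ := h.minusEquiv hn hab
      refine num_even hp hn (Or.inr rfl) (a := n * (n - 1)) ?_
      rw [← Nat.card_congr e.toEquiv, S0288.result (F := F) (q := Fintype.card F) rfl n hn a b hab, Nat.cast_mul,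
        Nat.cast_mul, cast_prod]
      push_cast
      ring

theorem IsOO.evO (hF : Odd (Fintype.card F)) {n : ℕ} {X : Spc F} (h : IsOO n X) {p : ℕ} (hp : Good F p) (ε : ℤ) :
    ev p X.G = nu p (vv F p) (NN False (dd F p) (sg F p) n ε) := by
  obtain ⟨e⟩ := h.oddEquiv
  refine num_odd hp (a := n ^ 2) ?_
  rw [← Nat.card_congr e.toEquiv, S0286.result (F := F) (q := Fintype.card F) rfl hF n, Nat.cast_mul, cast_prod]
  push_cast
  rfl

theorem bil_polar {V : Type*} [AddCommGroup V] [Module F V] {Q : QuadraticForm F V} (hnd : Nondeg Q) :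
    Eig.Bil (polar Q) := by
  refine ⟨fun u u' v => ?_, fun c u v => ?_, fun u v v' => ?_, fun c u v => ?_, fun v hv => hnd v fun u => ?_⟩
  · exact QuadraticMap.polar_add_left Q u u' v
  · exact QuadraticMap.polar_smul_left Q c u v
  · exact QuadraticMap.polar_add_right Q u v v'
  · exact QuadraticMap.polar_smul_right Q c u v
  · rw [QuadraticMap.polar_comm]
    exact hv u

theorem IsOE.hyp {n : ℕ} {ε : ℤ} {X : Spc F} (h : IsOE n ε X) : ∃ B : X.V → X.V → F, Eig.Bil B ∧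
    (∀ g : X.G, ∀ u v, B (g.1 u) (g.1 v) = B u v) ∧ Module.finrank F X.V = 2 * n := by
  obtain ⟨Q, hQ, hnd, hr, -, -⟩ := h
  refine ⟨polar Q, bil_polar hnd, fun g u v => ?_, hr⟩
  have h1 : ∀ u, Q (g.1 u) = Q u := fun u => by
    rw [← hQ _ (g.1 0), ← hQ _ 0]
    exact g.2 u 0
  unfold polar
  rw [← map_add, h1, h1, h1]

theorem exists_isOE {n : ℕ} (hn : 1 ≤ n) {ε : ℤ} (hε : ε = 1 ∨ ε = -1) : ∃ X : Spc F, IsOE n ε X := by
  obtain ⟨-, Q, g, hQ, hs, hg, ho⟩ := elt_one_pm (F := F) hn hε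
  refine ⟨{ V := Fin (2 * n) → F, f := fun u _ => Q u }, Q, fun u v => rfl, hQ, ?_, hs, hε⟩
  show Module.finrank F (Fin (2 * n) → F) = 2 * n
  rw [Module.finrank_fin_fun]

/-- the standard spaces -/
def stdPlus (F : Type) [Field F] [Fintype F] (n : ℕ) : Spc F where
  V := Fin n ⊕ Fin n → F
  f := fun u _ => quadFormPlus n F u

def stdMinus (F : Type) [Field F] [Fintype F] (n : ℕ) (a b : F) : Spc F where
  V := (Fin n ⊕ Fin n) ⊕ Fin 2 → F
  f := fun u _ => quadFormMinus n F a b u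

def stdOdd (F : Type) [Field F] [Fintype F] (n : ℕ) : Spc F where
  V := Unit ⊕ (Fin n ⊕ Fin n) → F
  f := fun u _ => quadFormOdd n F u

theorem isOE_plus (n : ℕ) : IsOE n 1 (stdPlus F n) := by
  refine ⟨plusForm n F, fun u v => ?_, nondeg_plusForm n F, ?_, hasSign_plusForm n, Or.inl rfl⟩
  · exact (congrFun (coe_plusForm n F) u).symm
  · show Module.finrank F (Fin n ⊕ Fin n → F) = 2 * n
    exact finrank_sumFun n

theorem isOE_minus (n : ℕ) {a b : F} (hab : Aniso a b) : IsOE (n + 1) (-1) (stdMinus F n a b) := by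
  refine ⟨minusForm n F a b, fun u v => ?_, nondeg_minusForm n F a b hab, ?_, hasSign_minusForm n hab, Or.inr rfl⟩
  · exact (congrFun (coe_minusForm n F a b) u).symm
  · show Module.finrank F ((Fin n ⊕ Fin n) ⊕ Fin 2 → F) = 2 * (n + 1)
    rw [Module.finrank_fintype_fun_eq_card, Fintype.card_sum, Fintype.card_sum, Fintype.card_fin, Fintype.card_fin]
    ring

theorem isOO_std (h2 : (2 : F) ≠ 0) (n : ℕ) : IsOO n (stdOdd F n) := by
  refine ⟨oddForm n F, fun u v => ?_, nondeg_oddForm n F h2, ?_⟩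
  · exact (congrFun (coe_oddForm n F) u).symm
  · show Module.finrank F (Unit ⊕ (Fin n ⊕ Fin n) → F) = 2 * n + 1
    rw [Module.finrank_fintype_fun_eq_card, Fintype.card_sum, Fintype.card_sum, Fintype.card_fin, Fintype.card_unit]
    ring

theorem IsOE.sign {n : ℕ} {ε : ℤ} {X : Spc F} (h : IsOE n ε X) : ε = 1 ∨ ε = -1 := by
  obtain ⟨Q, hQ, hnd, hr, hs, hε⟩ := h
  exact hε

theorem zeroOE : ∃ U : Spc F, IsOE 0 1 U ∧ Subsingleton U.V :=
  ⟨_, isOE_plus 0, (isOE_plus (F := F) 0).zero_eq.1⟩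

/-- the even orthogonal family -/
noncomputable def famEven (F : Type) [Field F] [Fintype F] : Fam F where
  bE := True
  bT := True
  s := sg F
  E := IsOE
  T := IsOE
  sgn _ := sg_pm F _
  sens _ := trivial
  signT h := h.sign
  zeroT _ := fun h => h.zero_eq.2
  bET h := h
  toE _ := fun h => h
  existsE hn _ hε := exists_isOE hn hε
  zeroE := zeroOE
  isoE h h' := h.isoG h'
  addE h h' := h.prod h'
  hypE h := h.hyp
  evE h _ hp := h.evE hp
  evT h _ hp := h.evE hp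
  splitT := by
    intro n ε X h m ε' hm hε' hmn
    have h0 : ∃ X' : Spc F, IsOE (n - m) (ε * ε') X' := by
      rcases Nat.eq_or_lt_of_le hm with h1 | h1
      · obtain ⟨X', hX', -⟩ := zeroOE (F := F)
        refine ⟨X', ?_⟩
        rw [h1, Nat.sub_self, hmn trivial h1, pm_sq h.sign]
        exact hX'
      · exact exists_isOE (by omega) (pm_mul h.sign hε')
    obtain ⟨X', hX'⟩ := h0
    refine ⟨X', hX', fun U hU => ?_⟩
    have h1 := hU.prod hX'
    rw [Nat.add_sub_cancel' hm] at h1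
    have h2 : ε' * (ε * ε') = ε := by
      have := pm_sq hε'
      linear_combination ε * this
    rw [h2] at h1
    exact h.isoG h1

/-- the odd orthogonal family -/
noncomputable def famOdd (F : Type) [Field F] [Fintype F] (hF : Odd (Fintype.card F)) (h2 : (2 : F) ≠ 0) : Fam F where
  bE := True
  bT := False
  s := sg F
  E := IsOE
  T n ε X := IsOO n X ∧ (ε = 1 ∨ ε = -1)
  sgn _ := sg_pm F _
  sens _ := trivial
  signT h := h.2
  zeroT h := h.elim
  bET h := h.elim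
  toE h := h.elim
  existsE hn _ hε := exists_isOE hn hε
  zeroE := zeroOE
  isoE h h' := h.isoG h'
  addE h h' := h.prod h'
  hypE h := h.hyp
  evE h _ hp := h.evE hp
  evT {n ε _} h _ hp := h.1.evO hF hp ε
  splitT := by
    intro n ε X h m ε' hm hε' hmn
    refine ⟨_, ⟨isOO_std h2 (n - m), pm_mul h.2 hε'⟩, fun U hU => ?_⟩
    have h1 := hU.prodOdd (isOO_std h2 (n - m))
    rw [Nat.add_sub_cancel' hm] at h1
    obtain ⟨e⟩ := h.1.oddEquiv
    obtain ⟨e'⟩ := h1.oddEquiv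
    exact ⟨e.symm.trans e'⟩

end Spaces

section Final

variable {F : Type} [Field F] [Fintype F]

theorem exists_index_two_pow {G : Type*} [Group G] [Finite G] (N : Subgroup G) [N.Normal] (h : ∀ g : G, g * g ∈ N) :
    ∃ k : ℕ, N.index = 2 ^ k := by
  have := Fact.mk Nat.prime_two
  have h1 : IsPGroup 2 (G ⧸ N) := by
    intro x
    obtain ⟨g, rfl⟩ := QuotientGroup.mk_surjective x
    refine ⟨1, ?_⟩
    rw [pow_one, _root_.sq, ← QuotientGroup.mk_mul, QuotientGroup.eq_one_iff]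
    exact h g
  obtain ⟨k, hk⟩ := IsPGroup.iff_card.1 h1
  exact ⟨k, hk⟩

/-- from the isometry group to `POmega` -/
theorem crossRow_POmega_of {r : ℕ} {ι : Type} [Fintype ι] [DecidableEq ι] (Q : QuadraticForm F (ι → F)) (hQ : Nondeg Q)
    (h5 : 5 ≤ Fintype.card ι) (h : CrossRow r (isometryGroup F ⇑Q)) : CrossRow r (POmega F ⇑Q) := by
  have h1 : CrossRow r (Omega F ⇑Q) :=
    CrossRow.of_normal (Omega F ⇑Q) (exists_index_two_pow _ (mul_self_mem_Omega Q hQ h5)) h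
  refine CrossRow.quot (QuotientGroup.mk' (Subgroup.center (Omega F ⇑Q))) (QuotientGroup.mk'_surjective _) ?_ h1
  rw [QuotientGroup.ker_mk']

theorem crossRow_POmegaPlus (r : ℕ) [Fact r.Prime] (F : Type) [Field F] [Fintype F] [CharP F r] (m : ℕ) (hm : 4 ≤ m) :
    CrossRow r (Cfsg.POmega F (Cfsg.quadFormPlus m F)) := by
  rw [← coe_plusForm]
  refine crossRow_POmega_of _ (nondeg_plusForm m F) ?_ ?_
  · rw [Fintype.card_sum, Fintype.card_fin]
    omega
  · rw [coe_plusForm]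
    obtain ⟨e⟩ := (isOE_plus (F := F) m).plusEquiv (by omega)
    exact CrossRow.congr e.symm ((famEven F).crossRow (Fact.out : r.Prime) (isOE_plus (F := F) m))

theorem crossRow_POmegaMinus (r : ℕ) [Fact r.Prime] (F : Type) [Field F] [Fintype F] [CharP F r] (m : ℕ) (a b : F)
    (hm : 4 ≤ m) (hab : ∀ z₁ z₂ : F, z₁ ^ 2 + a * z₁ * z₂ + b * z₂ ^ 2 = 0 → z₁ = 0 ∧ z₂ = 0) :
    CrossRow r (Cfsg.POmega F (Cfsg.quadFormMinus (m - 1) F a b)) := by
  rw [← coe_minusForm]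
  refine crossRow_POmega_of _ (nondeg_minusForm (m - 1) F a b hab) ?_ ?_
  · simp only [Fintype.card_sum, Fintype.card_fin]
    omega
  · rw [coe_minusForm]
    have h1 := isOE_minus (F := F) (m - 1) hab
    obtain ⟨e⟩ := h1.minusEquiv (by omega) hab
    exact CrossRow.congr e.symm ((famEven F).crossRow (Fact.out : r.Prime) h1)

theorem crossRow_POmegaOdd (r : ℕ) [Fact r.Prime] (F : Type) [Field F] [Fintype F] [CharP F r] (m : ℕ) (hm : 3 ≤ m)
    (hF : Odd (Fintype.card F)) : CrossRow r (Cfsg.POmega F (Cfsg.quadFormOdd m F)) := by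
  have h2 : (2 : F) ≠ 0 := H377.OOdd.two_ne_zero_of_odd (by rwa [Nat.card_eq_fintype_card])
  rw [← coe_oddForm]
  refine crossRow_POmega_of _ (nondeg_oddForm m F h2) ?_ ?_
  · simp only [Fintype.card_sum, Fintype.card_fin, Fintype.card_unit]
    omega
  · rw [coe_oddForm]
    obtain ⟨e⟩ := (isOO_std h2 m).oddEquiv
    exact CrossRow.congr e.symm ((famOdd F hF h2).crossRow (Fact.out : r.Prime) (n := m) (ε := 1)
      ⟨isOO_std h2 m, Or.inl rfl⟩)

end Final

end Cfsg.Agent.H17.CR
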