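import Cfsg.Agent.H17.CR.Fam
import Cfsg.Agent.H749.MatIso
import Cfsg.Agent.H749.RowS

/-!
# The row for the symplectic groups in cross characteristic (helper17)
-/

set_option autoImplicit false
set_option linter.unusedSectionVars false

open Cfsg
open Cfsg.Agent.H749 (Iso)
open Cfsg.Agent.H630.NH

namespace Cfsg.Agent.H17.CR

theorem good_of {F : Type} [Field F] {r : ℕ} (hr : r.Prime) [CharP F r] {p : ℕ} (hp : p.Prime) (h2 : p ≠ 2) (hpr : p ≠ r) :
    Good F p := by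
  refine ⟨hp, h2, fun h => ?_⟩
  rw [CharP.cast_eq_zero_iff F r] at h
  exact hpr ((Nat.prime_dvd_prime_iff_eq hr hp).1 h).symm

theorem Fam.crossRow {F : Type} [Field F] [Fintype F] (Φ : Fam F) {r : ℕ} (hr : r.Prime) [CharP F r] {n : ℕ} {ε : ℤ}
    {X : Spc F} (hX : Φ.T n ε X) : CrossRow r X.G := by
  intro π hπ hnt hc
  exact Φ.row (fun p hp => good_of hr (hπ p hp).1 (hπ p hp).2.1 (hπ p hp).2.2.1) hnt hX (fun p hp => (hπ p hp).2.2.2) hc

variable {F : Type} [Field F] [Fintype F]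

/-- symplectic spaces -/
def IsSp (n : ℕ) (X : Spc F) : Prop :=
  ∃ B : LinearMap.BilinForm F X.V, (∀ u v, X.f u v = B u v) ∧ B.IsAlt ∧ (∀ u, (∀ v, B u v = 0) → u = 0) ∧
    Module.finrank F X.V = 2 * n

theorem IsSp.equiv {n : ℕ} {X : Spc F} (h : IsSp n X) : Nonempty (Matrix.symplecticGroup (Fin n) F ≃* X.G) := by
  have : FiniteDimensional F X.V := Module.Finite.of_finite
  obtain ⟨B, hB, hA, hnd, hr⟩ := h
  obtain ⟨j, hj⟩ := ClassicalGeometry.SympIso.exists_linearEquiv_sympForm B hA hnd hr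
  exact H749.exists_spEquiv (j := j) (f' := X.f) (c := 1) ⟨one_ne_zero, fun x y => by rw [hB, hj, one_mul]⟩

theorem IsSp.iso {n : ℕ} {X Y : Spc F} (h : IsSp n X) (h' : IsSp n Y) : Nonempty (X.G ≃* Y.G) := by
  obtain ⟨e⟩ := h.equiv
  obtain ⟨e'⟩ := h'.equiv
  exact ⟨e.symm.trans e'⟩

/-- the standard space -/
def stdSp (F : Type) [Field F] [Fintype F] (n : ℕ) : Spc F where
  V := Fin n ⊕ Fin n → F
  f := sympForm n F

theorem isSp_std (n : ℕ) : IsSp n (stdSp F n) := by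
  refine ⟨ClassicalGeometry.SympBasic.sympBilin n F, fun _ _ => rfl, ClassicalGeometry.SympBasic.sympBilin_isAlt, fun _ hu =>
      ClassicalGeometry.SympBasic.eq_zero_of_forall_sympForm_right hu, ?_⟩
  show Module.finrank F (Fin n ⊕ Fin n → F) = 2 * n
  rw [Module.finrank_fintype_fun_eq_card, Fintype.card_sum, Fintype.card_fin]
  omega

theorem IsSp.prod {n m : ℕ} {X Y : Spc F} (h : IsSp n X) (h' : IsSp m Y) : IsSp (n + m) (X.prod Y) := by
  have : FiniteDimensional F X.V := Module.Finite.of_finite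
  have : FiniteDimensional F Y.V := Module.Finite.of_finite
  obtain ⟨B, hB, hA, hnd, hr⟩ := h
  obtain ⟨B', hB', hA', hnd', hr'⟩ := h'
  refine ⟨LinearMap.mk₂ F (fun u v : X.V × Y.V => B u.1 v.1 + B' u.2 v.2) ?_ ?_ ?_ ?_, ?_, ?_, ?_, ?_⟩
  · intro u u' v
    simp only [Prod.fst_add, Prod.snd_add, map_add, LinearMap.add_apply]
    ring
  · intro c u v
    simp only [Prod.smul_fst, Prod.smul_snd, map_smul, LinearMap.smul_apply, smul_add]
  · intro u v v'
    simp only [Prod.fst_add, Prod.snd_add, map_add]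
    ring
  · intro c u v
    simp only [Prod.smul_fst, Prod.smul_snd, map_smul, smul_add]
  · intro u v
    show X.f u.1 v.1 + Y.f u.2 v.2 = B u.1 v.1 + B' u.2 v.2
    rw [hB, hB']
  · intro u
    show B u.1 u.1 + B' u.2 u.2 = 0
    rw [hA, hA', add_zero]
  · intro u hu
    refine Prod.ext (hnd _ fun w => ?_) (hnd' _ fun w => ?_)
    · have h1 : B u.1 w + B' u.2 0 = 0 := hu (w, 0)
      rwa [map_zero, add_zero] at h1
    · have h1 : B u.1 0 + B' u.2 w = 0 := hu (0, w)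
      rwa [map_zero, zero_add] at h1
  · show Module.finrank F (X.V × Y.V) = 2 * (n + m)
    rw [Module.finrank_prod, hr, hr']
    ring

theorem IsSp.hyp {n : ℕ} {X : Spc F} (h : IsSp n X) : ∃ B : X.V → X.V → F, Eig.Bil B ∧
    (∀ g : X.G, ∀ u v, B (g.1 u) (g.1 v) = B u v) ∧ Module.finrank F X.V = 2 * n := by
  obtain ⟨B, hB, hA, hnd, hr⟩ := h
  refine ⟨fun u v => B u v, ⟨fun u u' v => by simp, fun c u v => by simp, fun u v v' => by simp, fun c u v => by simp,
    fun v hv => hnd v fun u => ?_⟩, fun g u v => ?_, hr⟩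
  · have h1 := hA.neg_eq v u
    have h2 : B u v = 0 := hv u
    rw [h2] at h1
    exact neg_eq_zero.1 h1
  · show B (g.1 u) (g.1 v) = B u v
    rw [← hB, ← hB]
    exact g.2 u v

theorem IsSp.ev {n : ℕ} {X : Spc F} (h : IsSp n X) {p : ℕ} (hp : Good F p) (ε : ℤ) :
    ev p X.G = nu p (vv F p) (NN False (dd F p) 1 n ε) := by
  have := Fact.mk hp.prime
  obtain ⟨e⟩ := h.equiv
  have h1 : NN False (dd F p) 1 n ε = n / dd F p := if_neg fun h => h.1
  have h2 := H749.vp_Sp (p := p) (F := F) hp.ne_two (d := dd F p) (by rw [Nat.card_eq_fintype_card]; exact dd_eq F p)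
    hp.dd_pos.ne' n
  rw [← ev_congr p e, h1]
  unfold CR.ev nu vv
  rw [h2, Nat.card_eq_fintype_card]

/-- the symplectic family -/
def famSp (F : Type) [Field F] [Fintype F] : Fam F where
  bE := False
  bT := False
  s _ := 1
  E n _ X := IsSp n X
  T n ε X := IsSp n X ∧ (ε = 1 ∨ ε = -1)
  sgn _ := Or.inl rfl
  sens h := absurd rfl h
  signT h := h.2
  zeroT h := h.elim
  bET h := h
  toE h := h.elim
  existsE {n} _ _ _ := ⟨_, isSp_std n⟩
  zeroE := ⟨_, isSp_std 0, by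
    show Subsingleton (Fin 0 ⊕ Fin 0 → F)
    infer_instance⟩
  isoE h h' := h.iso h'
  addE h h' := h.prod h'
  hypE h := h.hyp
  evE {n ε _} h _ hp := h.ev hp ε
  evT {n ε _} h _ hp := h.1.ev hp ε
  splitT {n ε X} h {m ε'} hm hε _ := ⟨_, ⟨isSp_std (n - m), pm_mul h.2 hε⟩, fun U hU => by
    have h1 := hU.prod (isSp_std (F := F) (n - m))
    rw [Nat.add_sub_cancel' hm] at h1
    exact h.1.iso h1⟩

end Cfsg.Agent.H17.CR

namespace Cfsg.Agent.H17.CR

/-- **The row for `Sp_{2m}(F)`.** -/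
theorem crossRow_Sp (r : ℕ) [Fact r.Prime] (F : Type) [Field F] [Fintype F] [CharP F r] (m : ℕ) (_hm : 1 ≤ m) :
    CrossRow r ↥(Matrix.symplecticGroup (Fin m) F) := by
  obtain ⟨e⟩ := (isSp_std (F := F) m).equiv
  exact CrossRow.congr e.symm ((famSp F).crossRow (Fact.out : r.Prime) (n := m) (ε := 1) ⟨isSp_std m, Or.inl rfl⟩)

end Cfsg.Agent.H17.CR
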